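import Mathlib

/-!
# Absolute irreducibility of the hypersurface model (helper11)

If the kernel of `aeval a : K[x] → L` is generated by `F` and `Kb ⊗[K] L` is a domain, then `F` is
irreducible over `Kb`.
-/

set_option autoImplicit false

namespace Groth.Agent.Lib.helper11.AbsIrr

open MvPolynomial TensorProduct

variable {K L Kb : Type*} [Field K] [Field L] [Algebra K L] [Field Kb] [Algebra K Kb]
  {ι : Type*}

/-- the base change of `aeval a` to `Kb` -/
noncomputable def betaHom (K Kb : Type*) {L ι : Type*} [Field K] [Field L] [Algebra K L] [Field Kb]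
    [Algebra K Kb] (a : ι → L) : MvPolynomial ι Kb →ₐ[Kb] Kb ⊗[K] L :=
  aeval (fun i => (1 : Kb) ⊗ₜ[K] a i)

theorem betaHom_map (a : ι → L) (G : MvPolynomial ι K) :
    betaHom K Kb a (MvPolynomial.map (algebraMap K Kb) G) = (1 : Kb) ⊗ₜ[K] aeval a G := by
  induction G using MvPolynomial.induction_on with
  | C c =>
    rw [map_C, aeval_C, betaHom, aeval_C, Algebra.TensorProduct.algebraMap_apply,
      Algebra.algebraMap_self, RingHom.id_apply, Algebra.algebraMap_eq_smul_one,
      Algebra.algebraMap_eq_smul_one (A := L), TensorProduct.smul_tmul]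
  | add p q hp hq => rw [map_add, map_add, map_add, hp, hq, TensorProduct.tmul_add]
  | mul_X p i hp =>
    rw [map_mul, map_mul, map_mul, hp, map_X, betaHom, aeval_X, aeval_X,
      Algebra.TensorProduct.tmul_mul_tmul, one_mul]

theorem ker_betaHom (a : ι → L) (F : MvPolynomial ι K)
    (hker : ∀ G, aeval a G = 0 ↔ F ∣ G) (H : MvPolynomial ι Kb) (hH : betaHom K Kb a H = 0) :
    MvPolynomial.map (algebraMap K Kb) F ∣ H := by
  classical
  let P := MvPolynomial ι K
  let e : Kb ⊗[K] P ≃ₐ[Kb] MvPolynomial ι Kb := algebraTensorAlgEquiv K Kb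
  let α : P →ₗ[K] L := (aeval a : P →ₐ[K] L).toLinearMap
  let ν : P →ₗ[K] P := LinearMap.mulLeft K F
  have hexact : Function.Exact ν α := by
    intro G
    change aeval a G = 0 ↔ G ∈ Set.range ν
    rw [hker]
    constructor
    · rintro ⟨H, rfl⟩
      exact ⟨H, rfl⟩
    · rintro ⟨H, rfl⟩
      exact ⟨H, rfl⟩
  have hexact' := Module.Flat.lTensor_exact Kb hexact
  have h1 : ∀ z : Kb ⊗[K] P, betaHom K Kb a (e z) = (α.lTensor Kb) z := by
    intro z
    induction z using TensorProduct.induction_on with
    | zero => simp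
    | tmul c G =>
      rw [LinearMap.lTensor_tmul]
      change betaHom K Kb a (algebraTensorAlgEquiv K Kb (c ⊗ₜ G)) = c ⊗ₜ[K] aeval a G
      rw [algebraTensorAlgEquiv_tmul, map_smul, betaHom_map, TensorProduct.smul_tmul',
        smul_eq_mul, mul_one]
    | add x y hx hy => rw [map_add, map_add, map_add, hx, hy]
  have h2 : ∀ z : Kb ⊗[K] P, e ((ν.lTensor Kb) z) = MvPolynomial.map (algebraMap K Kb) F * e z := by
    intro z
    induction z using TensorProduct.induction_on with
    | zero => simp
    | tmul c G =>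
      rw [LinearMap.lTensor_tmul]
      change algebraTensorAlgEquiv K Kb (c ⊗ₜ (F * G)) = _ * algebraTensorAlgEquiv K Kb (c ⊗ₜ G)
      rw [algebraTensorAlgEquiv_tmul, algebraTensorAlgEquiv_tmul, map_mul, mul_smul_comm]
    | add x y hx hy => rw [map_add, map_add, map_add, hx, hy, mul_add]
  have h3 : (α.lTensor Kb) (e.symm H) = 0 := by
    rw [← h1, AlgEquiv.apply_symm_apply]
    exact hH
  obtain ⟨w, hw⟩ := (hexact' (e.symm H)).mp h3
  refine ⟨e w, ?_⟩
  rw [← h2, hw, AlgEquiv.apply_symm_apply]

theorem irreducible_map_of_isDomain_tensor (a : ι → L) (F : MvPolynomial ι K) (hF0 : F ≠ 0)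
    (hker : ∀ G, aeval a G = 0 ↔ F ∣ G) [IsDomain (Kb ⊗[K] L)] :
    Irreducible (MvPolynomial.map (algebraMap K Kb) F) := by
  have hFb0 : MvPolynomial.map (algebraMap K Kb) F ≠ 0 := by
    rw [Ne, map_eq_zero_iff _ (map_injective _ (algebraMap K Kb).injective)]
    exact hF0
  have hker' : RingHom.ker (betaHom K Kb a : MvPolynomial ι Kb →+* Kb ⊗[K] L) =
      Ideal.span {MvPolynomial.map (algebraMap K Kb) F} := by
    apply le_antisymm
    · intro H hH
      rw [Ideal.mem_span_singleton]
      exact ker_betaHom a F hker H hH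
    · rw [Ideal.span_le, Set.singleton_subset_iff, SetLike.mem_coe, RingHom.mem_ker]
      change betaHom K Kb a (MvPolynomial.map (algebraMap K Kb) F) = 0
      rw [betaHom_map, (hker F).mpr dvd_rfl, TensorProduct.tmul_zero]
  have hprime : (Ideal.span {MvPolynomial.map (algebraMap K Kb) F}).IsPrime := by
    rw [← hker']
    exact RingHom.ker_isPrime _
  exact ((Ideal.span_singleton_prime hFb0).mp hprime).irreducible

end Groth.Agent.Lib.helper11.AbsIrr
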