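import Groth.Agent.Lib.helper11.AbsIrr.SchBasic

/-!
# Geometric connectedness of single fibres: scheme-level basics (helper11)
-/

set_option autoImplicit false

universe u

open AlgebraicGeometry CategoryTheory Limits

namespace Groth.Agent.Lib.helper11.AbsIrr

variable {X Y : Scheme.{u}}

/-- `GC f y`: the fibre of `f` at `y` is geometrically connected, in unfolded form. -/
def GC (f : X ⟶ Y) (y : Y) : Prop :=
  ∀ (Ω : Type u) [Field Ω] (x : Spec (.of Ω) ⟶ Y), y ∈ Set.range x →
    ConnectedSpace ↑(pullback f x)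

theorem connectedSpace_of_iso {P Q : Scheme.{u}} (e : P ≅ Q) [ConnectedSpace P] :
    ConnectedSpace Q :=
  (e.hom.homeomorph).surjective.connectedSpace e.hom.continuous

theorem gc_of_geometricallyConnected (f : X ⟶ Y) (y : Y)
    (h : GeometricallyConnected (f.fiberToSpecResidueField y)) : GC f y := by
  intro Ω _ x hx
  obtain ⟨⟨y', φ⟩, rfl⟩ := (Scheme.SpecToEquivOfField _ _).symm.surjective x
  simp only [Scheme.SpecToEquivOfField, Equiv.coe_fn_symm_mk] at hx ⊢
  obtain ⟨pt, hpt⟩ := hx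
  rw [Scheme.Hom.comp_apply, Scheme.fromSpecResidueField_apply] at hpt
  subst hpt
  have h1 := h.geometrically_connectedSpace
  haveI : ConnectedSpace ↑(pullback (pullback.snd f (Y.fromSpecResidueField y')) (Spec.map φ)) :=
    pullback_of_geometrically h1 Ω (Spec.map φ)
  exact connectedSpace_of_iso
    (pullbackLeftPullbackSndIso f (Y.fromSpecResidueField y') (Spec.map φ))

section BC

variable (f : X ⟶ Y) {Y' : Scheme.{u}} (g : Y' ⟶ Y)

theorem gc_pullback_snd_of_gc (y' : Y') (h : GC f (g y')) : GC (pullback.snd f g) y' := by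
  intro Ω _ x' hx'
  obtain ⟨pt, hpt⟩ := hx'
  haveI : ConnectedSpace ↑(pullback f (x' ≫ g)) :=
    h Ω (x' ≫ g) ⟨pt, by rw [Scheme.Hom.comp_apply, hpt]⟩
  exact connectedSpace_of_iso (pullbackLeftPullbackSndIso f g x').symm

theorem gc_of_gc_pullback_snd (y' : Y') (h : GC (pullback.snd f g) y') : GC f (g y') := by
  intro Ω _ x hx
  obtain ⟨pt, hpt⟩ := hx
  obtain ⟨z, hz1, hz2⟩ := Scheme.Pullback.exists_preimage_pullback (f := x) (g := g) pt y' hpt
  let Ω' : Type u := (pullback x g).residueField z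
  let zmap : Spec (.of Ω') ⟶ pullback x g := (pullback x g).fromSpecResidueField z
  let x' : Spec (.of Ω') ⟶ Y' := zmap ≫ pullback.snd x g
  let w : Spec (.of Ω') ⟶ Spec (.of Ω) := zmap ≫ pullback.fst x g
  have e : x' ≫ g = w ≫ x := by
    simp only [x', w, Category.assoc, pullback.condition]
  have hx' : y' ∈ Set.range x' := by
    refine ⟨IsLocalRing.closedPoint Ω', ?_⟩
    rw [Scheme.Hom.comp_apply]
    rw [show zmap (IsLocalRing.closedPoint Ω') = z from Scheme.fromSpecResidueField_apply _ _]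
    exact hz2
  haveI h1 : ConnectedSpace ↑(pullback (pullback.snd f g) x') := h Ω' x' hx'
  haveI h2 : ConnectedSpace ↑(pullback f (x' ≫ g)) :=
    connectedSpace_of_iso (pullbackLeftPullbackSndIso f g x')
  haveI h3 : ConnectedSpace ↑(pullback f (w ≫ x)) :=
    connectedSpace_of_iso (pullback.congrHom rfl e)
  haveI h4 : ConnectedSpace ↑(pullback (pullback.snd f x) w) :=
    connectedSpace_of_iso (pullbackLeftPullbackSndIso f x w).symm
  haveI : Surjective w := ⟨fun p => ⟨IsLocalRing.closedPoint Ω', Subsingleton.elim _ _⟩⟩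
  exact (pullback.fst (pullback.snd f x) w).surjective.connectedSpace
    (pullback.fst (pullback.snd f x) w).continuous

end BC

section RL

/-- Weak reduction lemma: the spreading-out statement for geometric connectedness can be checked
after base change along a map under which images of nonempty opens contain nonempty opens. -/
theorem reduction_gc_weak (f : X ⟶ Y) {Y' : Scheme.{u}} (g : Y' ⟶ Y) [IrreducibleSpace Y]
    [IrreducibleSpace Y'] (hgen : g (genericPoint Y') = genericPoint Y)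
    (hg : ∀ V' : Y'.Opens, (V' : Set Y').Nonempty →
      ∃ V : Y.Opens, (V : Set Y).Nonempty ∧ (V : Set Y) ⊆ g '' (V' : Set Y'))
    (H : GC (pullback.snd f g) (genericPoint Y') →
      ∃ V' : Y'.Opens, (V' : Set Y').Nonempty ∧ ∀ y' ∈ V', GC (pullback.snd f g) y')
    (h : GC f (genericPoint Y)) :
    ∃ V : Y.Opens, (V : Set Y).Nonempty ∧ ∀ y ∈ V, GC f y := by
  obtain ⟨V', hV', HV'⟩ := H (gc_pullback_snd_of_gc f g _ (by rw [hgen]; exact h))
  obtain ⟨V, hV, hVV'⟩ := hg V' hV'
  refine ⟨V, hV, ?_⟩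
  intro y hy
  obtain ⟨y', hy', rfl⟩ := hVV' hy
  exact gc_of_gc_pullback_snd f g y' (HV' y' hy')

theorem reduction_gc (f : X ⟶ Y) {Y' : Scheme.{u}} (g : Y' ⟶ Y) [IrreducibleSpace Y]
    [IrreducibleSpace Y'] (hg : IsOpenMap g)
    (H : GC (pullback.snd f g) (genericPoint Y') →
      ∃ V' : Y'.Opens, (V' : Set Y').Nonempty ∧ ∀ y' ∈ V', GC (pullback.snd f g) y')
    (h : GC f (genericPoint Y)) :
    ∃ V : Y.Opens, (V : Set Y).Nonempty ∧ ∀ y ∈ V, GC f y :=
  reduction_gc_weak f g (map_genericPoint_of_isOpenMap g hg)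
    (fun V' hV' => ⟨⟨g '' (V' : Set Y'), hg _ V'.isOpen⟩, hV'.image _, subset_rfl⟩) H h

end RL

end Groth.Agent.Lib.helper11.AbsIrr
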