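import Mathlib

/-!
# Connectedness and intersection graphs of finite closed covers (helper11)
-/

set_option autoImplicit false

namespace Groth.Agent.Lib.helper11.AbsIrr

open Relation

theorem reflTransGen_of_connected_closed_cover {α ι : Type*} [TopologicalSpace α]
    [PreconnectedSpace α] [Finite ι] (s : ι → Set α) (hcl : ∀ i, IsClosed (s i))
    (hne : ∀ i, (s i).Nonempty) (hcov : ⋃ i, s i = Set.univ) (i j : ι) :
    ReflTransGen (fun a b => (s a ∩ s b).Nonempty) i j := by
  classical
  by_contra hij
  let S : Set ι := {k | ReflTransGen (fun a b => (s a ∩ s b).Nonempty) i k}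
  let U : Set α := ⋃ k ∈ S, s k
  let V : Set α := ⋃ k ∈ Sᶜ, s k
  have hU : IsClosed U := (Set.toFinite S).isClosed_biUnion fun k _ => hcl k
  have hV : IsClosed V := (Set.toFinite Sᶜ).isClosed_biUnion fun k _ => hcl k
  have hUV : U ∪ V = Set.univ := by
    rw [Set.eq_univ_iff_forall]
    intro x
    have hx : x ∈ ⋃ i, s i := by rw [hcov]; trivial
    obtain ⟨k, hk⟩ := Set.mem_iUnion.mp hx
    by_cases hkS : k ∈ S
    · exact Or.inl (Set.mem_biUnion hkS hk)
    · exact Or.inr (Set.mem_biUnion (show k ∈ Sᶜ from hkS) hk)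
  have hdisj : Disjoint U V := by
    rw [Set.disjoint_left]
    intro x hxU hxV
    obtain ⟨k, hkS, hxk⟩ := Set.mem_iUnion₂.mp hxU
    obtain ⟨l, hlS, hxl⟩ := Set.mem_iUnion₂.mp hxV
    exact hlS (ReflTransGen.tail hkS ⟨x, hxk, hxl⟩)
  have hUcompl : U = Vᶜ := by
    ext x
    constructor
    · intro hxU hxV
      exact Set.disjoint_left.mp hdisj hxU hxV
    · intro hxV
      have : x ∈ U ∪ V := by rw [hUV]; trivial
      exact this.resolve_right hxV
  have hclopen : IsClopen U := ⟨hU, by rw [hUcompl]; exact hV.isOpen_compl⟩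
  rcases isClopen_iff.mp hclopen with h | h
  · obtain ⟨x, hx⟩ := hne i
    have : x ∈ U := Set.mem_biUnion (show i ∈ S from ReflTransGen.refl) hx
    rw [h] at this
    exact this
  · obtain ⟨x, hx⟩ := hne j
    have hxV : x ∈ V := Set.mem_biUnion (show j ∈ Sᶜ from hij) hx
    have hxU : x ∈ U := by rw [h]; trivial
    exact Set.disjoint_left.mp hdisj hxU hxV

/-- A space covered by finitely many (pre)connected pieces with connected intersection graph is
connected. -/
theorem connectedSpace_of_cover {α ι : Type*} [TopologicalSpace α] [Nonempty ι] (s : ι → Set α)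
    (hconn : ∀ i, IsConnected (s i)) (hcov : ⋃ i, s i = Set.univ)
    (K : ∀ i j, ReflTransGen (fun a b => (s a ∩ s b).Nonempty) i j) : ConnectedSpace α := by
  have h := IsConnected.iUnion_of_reflTransGen hconn K
  rw [hcov] at h
  exact connectedSpace_iff_univ.mpr h

end Groth.Agent.Lib.helper11.AbsIrr
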