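import Groth.Agent.Lib.helper11.AbsIrr.SchRed
import Groth.Agent.Lib.helper11.AbsIrr.ConnBasic
import Groth.Agent.Lib.helper11.AbsIrr.ConnGraph
import Groth.Agent.S1299

/-!
# Spreading out geometric connectedness: the core argument (helper11)
-/

set_option autoImplicit false

universe u

open AlgebraicGeometry CategoryTheory Limits

namespace Groth.Agent.Lib.helper11.AbsIrr

variable {X Y : Scheme.{u}}

theorem irreducibleSpace_of_isInducing_of_isIrreducible_range {A B : Type*} [TopologicalSpace A]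
    [TopologicalSpace B] {j : A → B} (hj : Topology.IsInducing j)
    (h : IsIrreducible (Set.range j)) : IrreducibleSpace A := by
  obtain ⟨⟨b, a, rfl⟩, hpre⟩ := h
  haveI : Nonempty A := ⟨a⟩
  refine { isPreirreducible_univ := ?_, toNonempty := inferInstance }
  intro u' v' hu' hv' hu'ne hv'ne
  obtain ⟨u, hu, rfl⟩ := hj.isOpen_iff.mp hu'
  obtain ⟨v, hv, rfl⟩ := hj.isOpen_iff.mp hv'
  obtain ⟨x, -, hx⟩ := hu'ne
  obtain ⟨y, -, hy⟩ := hv'ne
  obtain ⟨_, ⟨z, rfl⟩, hzu, hzv⟩ := hpre u v hu hv ⟨j x, ⟨x, rfl⟩, hx⟩ ⟨j y, ⟨y, rfl⟩, hy⟩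
  exact ⟨z, trivial, hzu, hzv⟩

instance (f : X ⟶ Y) {W S : Scheme.{u}} (j : W ⟶ X) (x : S ⟶ Y) [IsClosedImmersion j] :
    IsClosedImmersion (pbIncl f j x) := by
  unfold pbIncl
  infer_instance

/-- Core: if the generic fibre is covered by the traces of finitely many closed subsets of `X`
which are geometrically irreducible over the generic point, and the generic fibre is geometrically
connected, then nearby fibres are geometrically connected. -/
theorem gc_spread_core (f : X ⟶ Y) [IrreducibleSpace Y] [LocallyOfFiniteType f] [QuasiCompact f]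
    {ι : Type} [Finite ι] (T : ι → Set X) (hT : ∀ i, IsClosed (T i))
    (H1 : ∀ i (Ω : Type u) [Field Ω] (x : Spec (.of Ω) ⟶ Y), genericPoint Y ∈ Set.range x →
      IsIrreducible ((pullback.fst f x) ⁻¹' T i))
    (H2 : f ⁻¹' {genericPoint Y} ⊆ ⋃ i, T i)
    (H3 : GC f (genericPoint Y)) :
    ∃ V : Y.Opens, (V : Set Y).Nonempty ∧ ∀ y ∈ V, GC f y := by
  classical
  set η := genericPoint Y with hη
  -- (1) the closed subschemes
  let I : ι → X.IdealSheafData := fun i => Scheme.IdealSheafData.vanishingIdeal ⟨T i, hT i⟩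
  have hrange : ∀ i, Set.range (I i).subschemeι = T i := fun i => by
    rw [(I i).range_subschemeι]
    exact Scheme.IdealSheafData.coe_support_vanishingIdeal _
  have hGI : ∀ i, GI ((I i).subschemeι ≫ f) η := by
    intro i Ω _ x hx
    have h1 := H1 i Ω x hx
    rw [← hrange i, ← range_pbIncl f (I i).subschemeι x] at h1
    exact irreducibleSpace_of_isInducing_of_isIrreducible_range
      (pbIncl f (I i).subschemeι x).isEmbedding.isInducing h1
  choose Vi hVi HVi using fun i => main_gi ((I i).subschemeι ≫ f) (hGI i)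
  -- (2) the covering property spreads out
  obtain ⟨V₀, hV₀, HV₀⟩ := Groth.Agent.S1299.result f (fun i => (f.fiberι η) ⁻¹' T i)
    (fun i => (hT i).preimage (f.fiberι η).continuous) (by
      rw [Set.eq_univ_iff_forall]
      intro t
      have h1 : (f.fiberι η) t ∈ f ⁻¹' {η} := by
        rw [← f.range_fiberι η]; exact ⟨t, rfl⟩
      obtain ⟨i, hi⟩ := Set.mem_iUnion.mp (H2 h1)
      exact Set.mem_iUnion.mpr ⟨i, hi⟩)
  have HV₀' : ∀ y ∈ V₀, ⋃ i, (f.fiberι y) ⁻¹' T i = Set.univ := by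
    intro y hy
    rw [Set.eq_univ_iff_forall]
    intro t
    have h1 : t ∈ ⋃ i, (f.fiberι y) ⁻¹' closure ((f.fiberι η) '' ((f.fiberι η) ⁻¹' T i)) := by
      rw [HV₀ y hy]; trivial
    obtain ⟨i, hi⟩ := Set.mem_iUnion.mp h1
    refine Set.mem_iUnion.mpr ⟨i, ?_⟩
    exact closure_minimal (Set.image_preimage_subset _ _) (hT i) hi
  -- (3) intersections
  have hpair : ∀ p : ι × ι, ∃ V : Y.Opens, η ∈ V ∧
      ((T p.1 ∩ T p.2 ∩ f ⁻¹' {η}).Nonempty → (V : Set Y) ⊆ f '' (T p.1 ∩ T p.2)) := by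
    intro p
    by_cases hne : (T p.1 ∩ T p.2 ∩ f ⁻¹' {η}).Nonempty
    · obtain ⟨ξ, ⟨hξ1, hξ2⟩, hξη⟩ := hne
      obtain ⟨V, hV, HV⟩ := Groth.Agent.Lib.lead.GenFibreDim.exists_open_subset_image f
        (T p.1 ∩ T p.2) ((hT _).inter (hT _)) ξ ⟨hξ1, hξ2⟩ hξη
      exact ⟨V, hV, fun _ => HV⟩
    · exact ⟨⊤, trivial, fun h => absurd h hne⟩
  choose Vp hVp HVp using hpair
  have hmemη : ∀ V : Y.Opens, (V : Set Y).Nonempty → η ∈ V := by
    intro V hV
    obtain ⟨v, hv⟩ := hV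
    exact ((genericPoint_spec Y).mem_open_set_iff V.isOpen).mpr ⟨v, trivial, hv⟩
  -- the generic fibre and its graph
  haveI hconn0 : ConnectedSpace ↑(f.fiber η) :=
    H3 _ (Y.fromSpecResidueField η) ⟨IsLocalRing.closedPoint _, Scheme.fromSpecResidueField_apply _ _⟩
  have hirr0 : ∀ i, IsIrreducible ((f.fiberι η) ⁻¹' T i) := fun i =>
    H1 i _ (Y.fromSpecResidueField η) ⟨IsLocalRing.closedPoint _, Scheme.fromSpecResidueField_apply _ _⟩
  have hcov0 : ⋃ i, (f.fiberι η) ⁻¹' T i = Set.univ := by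
    rw [Set.eq_univ_iff_forall]
    intro t
    have h1 : (f.fiberι η) t ∈ f ⁻¹' {η} := by
      rw [← f.range_fiberι η]; exact ⟨t, rfl⟩
    obtain ⟨i, hi⟩ := Set.mem_iUnion.mp (H2 h1)
    exact Set.mem_iUnion.mpr ⟨i, hi⟩
  haveI : Nonempty ι := by
    obtain ⟨t⟩ := hconn0.toNonempty
    have h1 : t ∈ ⋃ i, (f.fiberι η) ⁻¹' T i := by rw [hcov0]; trivial
    obtain ⟨i, -⟩ := Set.mem_iUnion.mp h1
    exact ⟨i⟩
  have hgraph0 := reflTransGen_of_connected_closed_cover (fun i => (f.fiberι η) ⁻¹' T i)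
    (fun i => (hT i).preimage (f.fiberι η).continuous) (fun i => (hirr0 i).nonempty) hcov0
  have hgraph : ∀ i j, Relation.ReflTransGen
      (fun a b => (T a ∩ T b ∩ f ⁻¹' {η}).Nonempty) i j := by
    intro i j
    refine Relation.ReflTransGen.mono ?_ i j (hgraph0 i j)
    rintro a b ⟨t, hta, htb⟩
    refine ⟨(f.fiberι η) t, ⟨hta, htb⟩, ?_⟩
    rw [← f.range_fiberι η]; exact ⟨t, rfl⟩
  -- (g) the open set
  haveI : Finite (ι × ι) := inferInstance
  let Vset : Set Y := (V₀ : Set Y) ∩ (⋂ i, (Vi i : Set Y)) ∩ (⋂ p, (Vp p : Set Y))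
  have hVopen : IsOpen Vset :=
    (V₀.isOpen.inter (isOpen_iInter_of_finite fun i => (Vi i).isOpen)).inter
      (isOpen_iInter_of_finite fun p => (Vp p).isOpen)
  refine ⟨⟨Vset, hVopen⟩, ⟨η, ⟨hmemη V₀ hV₀, Set.mem_iInter.mpr fun i => hmemη _ (hVi i)⟩,
    Set.mem_iInter.mpr fun p => (hVp p)⟩, ?_⟩
  rintro y ⟨⟨hy₀, hyi⟩, hyp⟩
  rw [Set.mem_iInter] at hyi hyp
  intro Ω _ x hx
  obtain ⟨pt, hpt⟩ := hx
  -- the pieces of the geometric fibre
  have hcov : ⋃ i, (pullback.fst f x) ⁻¹' T i = Set.univ := by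
    rw [Set.eq_univ_iff_forall]
    intro z
    have h1 : (pullback.fst f x) z ∈ Set.range (f.fiberι y) := by
      rw [f.range_fiberι y]
      have h2 : (pullback.fst f x ≫ f) z = (pullback.snd f x ≫ x) z := by
        rw [pullback.condition]
      rw [Scheme.Hom.comp_apply, Scheme.Hom.comp_apply] at h2
      change f ((pullback.fst f x) z) = y
      rw [h2, ← hpt]
      congr 1
      exact Subsingleton.elim _ _
    obtain ⟨t, ht⟩ := h1
    have h3 : t ∈ ⋃ i, (f.fiberι y) ⁻¹' T i := by rw [HV₀' y hy₀]; trivial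
    obtain ⟨i, hi⟩ := Set.mem_iUnion.mp h3
    refine Set.mem_iUnion.mpr ⟨i, ?_⟩
    change (pullback.fst f x) z ∈ T i
    rw [← ht]
    exact hi
  have hirr : ∀ i, IsIrreducible ((pullback.fst f x) ⁻¹' T i) := by
    intro i
    haveI : IrreducibleSpace ↑(pullback ((I i).subschemeι ≫ f) x) :=
      HVi i y (hyi i) Ω x ⟨pt, hpt⟩
    rw [← hrange i, ← range_pbIncl f (I i).subschemeι x, ← Set.image_univ]
    exact (IrreducibleSpace.isIrreducible_univ _).image _
      (pbIncl f (I i).subschemeι x).continuous.continuousOn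
  have hedge : ∀ i j, (T i ∩ T j ∩ f ⁻¹' {η}).Nonempty →
      ((pullback.fst f x) ⁻¹' T i ∩ (pullback.fst f x) ⁻¹' T j).Nonempty := by
    intro i j hij
    obtain ⟨t, ⟨hti, htj⟩, hty⟩ := HVp (i, j) hij (hyp (i, j))
    obtain ⟨z, hz, -⟩ := Scheme.Pullback.exists_preimage_pullback (f := f) (g := x) t pt
      (hty.trans hpt.symm)
    refine ⟨z, ?_, ?_⟩
    · change (pullback.fst f x) z ∈ T i
      rw [hz]; exact hti
    · change (pullback.fst f x) z ∈ T j
      rw [hz]; exact htj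
  exact connectedSpace_of_cover (fun i => (pullback.fst f x) ⁻¹' T i)
    (fun i => (hirr i).isConnected) hcov
    (fun i j => Relation.ReflTransGen.mono (fun a b hab => hedge a b hab) i j (hgraph i j))

end Groth.Agent.Lib.helper11.AbsIrr
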