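import Groth.Agent.Lib.helper11.AbsIrr.ConnSep

/-!
# Spreading out geometric connectedness: reductions and the general statement (helper11)
-/

set_option autoImplicit false

universe u

open AlgebraicGeometry CategoryTheory Limits Polynomial

namespace Groth.Agent.Lib.helper11.AbsIrr

variable {X Y : Scheme.{u}}

/-- For an integral extension of domains, the image of a nonempty basic open contains a nonempty
basic open. -/
theorem exists_basicOpen_subset_image_of_integral (A S : Type*) [CommRing A] [IsDomain A]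
    [CommRing S] [IsDomain S] [Algebra A S] [Algebra.IsIntegral A S] [FaithfulSMul A S]
    (a' : S) (ha' : a' ≠ 0) :
    ∃ c : A, c ≠ 0 ∧ ∀ p : PrimeSpectrum A, c ∉ p.asIdeal →
      ∃ q : PrimeSpectrum S, a' ∉ q.asIdeal ∧ PrimeSpectrum.comap (algebraMap A S) q = p := by
  have halg : IsAlgebraic A a' := (Algebra.IsIntegral.isIntegral a').isAlgebraic
  obtain ⟨Q, hQ0, hQ⟩ := halg.exists_nonzero_coeff_and_aeval_eq_zero
    (mem_nonZeroDivisors_of_ne_zero ha')
  refine ⟨Q.coeff 0, hQ0, fun p hp => ?_⟩
  obtain ⟨q, rfl⟩ := Algebra.IsIntegral.comap_surjective A S p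
  refine ⟨q, fun hmem => hp ?_, rfl⟩
  change algebraMap A S (Q.coeff 0) ∈ q.asIdeal
  have h1 : aeval a' Q = aeval a' (divX Q) * a' + algebraMap A S (Q.coeff 0) := by
    conv_lhs => rw [← divX_mul_X_add Q]
    simp
  rw [hQ] at h1
  have h2 : algebraMap A S (Q.coeff 0) = -(aeval a' (divX Q) * a') := by
    rw [eq_neg_iff_add_eq_zero, add_comm]; exact h1.symm
  rw [h2]
  exact neg_mem (Ideal.mul_mem_left _ _ hmem)

theorem weak_open_of_integral (A S : Type u) [CommRing A] [IsDomain A] [CommRing S] [IsDomain S]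
    [Algebra A S] [Algebra.IsIntegral A S] [FaithfulSMul A S]
    (V' : (Spec (CommRingCat.of S)).Opens) (hV' : (V' : Set ↑(Spec (CommRingCat.of S))).Nonempty) :
    ∃ V : (Spec (CommRingCat.of A)).Opens, (V : Set ↑(Spec (CommRingCat.of A))).Nonempty ∧
      (V : Set ↑(Spec (CommRingCat.of A))) ⊆
        (Spec.map (CommRingCat.ofHom (algebraMap A S))) '' (V' : Set ↑(Spec (CommRingCat.of S))) := by
  obtain ⟨v, hv⟩ := hV'
  obtain ⟨_, ⟨a', rfl⟩, hva', ha'V'⟩ :=
    PrimeSpectrum.isTopologicalBasis_basic_opens.exists_subset_of_mem_open hv V'.isOpen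
  have ha'0 : a' ≠ 0 := by
    rintro rfl
    exact hva' (zero_mem _)
  obtain ⟨c, hc0, hc⟩ := exists_basicOpen_subset_image_of_integral A S a' ha'0
  refine ⟨PrimeSpectrum.basicOpen c, ⟨(⊥ : PrimeSpectrum A), ?_⟩, ?_⟩
  · change c ∉ (⊥ : PrimeSpectrum A).asIdeal
    intro hm
    exact hc0 (by simpa using hm)
  · intro p hp
    obtain ⟨q, hq, hqp⟩ := hc p hp
    exact ⟨q, ha'V' hq, hqp⟩

/-- integral affine base -/
theorem gc_spread_domain (A : Type u) [CommRing A] [IsDomain A]
    (f : X ⟶ Spec (CommRingCat.of A)) [LocallyOfFiniteType f] [QuasiCompact f]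
    (h : GC f (genericPoint ↑(Spec (CommRingCat.of A)))) :
    ∃ V : (Spec (CommRingCat.of A)).Opens, (V : Set ↑(Spec (CommRingCat.of A))).Nonempty ∧
      ∀ y ∈ V, GC f y := by
  let K := FractionRing A
  let Kb := AlgebraicClosure K
  let S : Type u := ↥(integralClosure A Kb)
  haveI : Algebra.IsAlgebraic A K := IsLocalization.isAlgebraic K (nonZeroDivisors A)
  haveI : Algebra.IsAlgebraic A Kb := Algebra.IsAlgebraic.trans A K Kb
  have hinjKb : Function.Injective (algebraMap A Kb) := by
    rw [IsScalarTower.algebraMap_eq A K Kb]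
    exact (algebraMap K Kb).injective.comp (IsFractionRing.injective A K)
  haveI : IsFractionRing S Kb :=
    integralClosure.isFractionRing_of_algebraic (fun x hx => hinjKb (hx.trans (map_zero _).symm))
  have hinjS : Function.Injective (algebraMap A S) := by
    intro a b hab
    apply hinjKb
    rw [IsScalarTower.algebraMap_apply A S Kb, IsScalarTower.algebraMap_apply A S Kb, hab]
  haveI : FaithfulSMul A S := (faithfulSMul_iff_algebraMap_injective A S).mpr hinjS
  haveI : IsSepClosed (FractionRing S) := by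
    haveI : IsAlgClosed (FractionRing S) :=
      IsAlgClosed.of_ringEquiv (k := Kb) (FractionRing S) (FractionRing.algEquiv S Kb).symm.toRingEquiv
    infer_instance
  let g : Spec (CommRingCat.of S) ⟶ Spec (CommRingCat.of A) :=
    Spec.map (CommRingCat.ofHom (algebraMap A S))
  have hgen : g (genericPoint ↑(Spec (CommRingCat.of S))) =
      genericPoint ↑(Spec (CommRingCat.of A)) := by
    rw [genericPoint_eq_bot_of_affine (CommRingCat.of A),
      genericPoint_eq_bot_of_affine (CommRingCat.of S)]
    apply PrimeSpectrum.ext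
    exact Ideal.comap_bot_of_injective (algebraMap A S) hinjS
  exact reduction_gc_weak f g hgen (weak_open_of_integral A S)
    (gc_spread_of_isSepClosed S (pullback.snd f g)) h

/-- irreducible affine base -/
theorem gc_spread_affine_irreducible (R : Type u) [CommRing R] [IrreducibleSpace (PrimeSpectrum R)]
    [IrreducibleSpace ↑(Spec (CommRingCat.of R))]
    (f : X ⟶ Spec (CommRingCat.of R)) [LocallyOfFiniteType f] [QuasiCompact f]
    (h : GC f (genericPoint ↑(Spec (CommRingCat.of R)))) :
    ∃ V : (Spec (CommRingCat.of R)).Opens, (V : Set ↑(Spec (CommRingCat.of R))).Nonempty ∧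
      ∀ y ∈ V, GC f y := by
  haveI hprime : (nilradical R).IsPrime :=
    (PrimeSpectrum.irreducibleSpace_iff_isPrime_nilradical).mp inferInstance
  let A := R ⧸ nilradical R
  haveI : IsDomain A := Ideal.Quotient.isDomain _
  let g : Spec (CommRingCat.of A) ⟶ Spec (CommRingCat.of R) :=
    Spec.map (CommRingCat.ofHom (Ideal.Quotient.mk (nilradical R)))
  have hg : IsOpenMap g := by
    have hh : IsHomeomorph (PrimeSpectrum.comap (Ideal.Quotient.mk (nilradical R))) :=
      PrimeSpectrum.isHomeomorph_comap _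
        (fun x => ⟨1, Nat.one_pos, by rw [pow_one]; exact Ideal.Quotient.mk_surjective x⟩)
        (by rw [Ideal.mk_ker])
    exact hh.isOpenMap
  exact reduction_gc f g hg (gc_spread_domain A (pullback.snd f g)) h

/-- the general statement in terms of `GC` -/
theorem main_gc (f : X ⟶ Y) [IrreducibleSpace Y] [LocallyOfFiniteType f] [QuasiCompact f]
    (h : GC f (genericPoint Y)) :
    ∃ V : Y.Opens, (V : Set Y).Nonempty ∧ ∀ y ∈ V, GC f y := by
  obtain ⟨U, hU, hηU, -⟩ := exists_isAffineOpen_mem_and_subset (U := (⊤ : Y.Opens))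
    (x := genericPoint Y) (by simp)
  let R : Type u := Γ(Y, U)
  let g : Spec (CommRingCat.of R) ⟶ Y := hU.fromSpec
  haveI : IsOpenImmersion g := inferInstanceAs (IsOpenImmersion hU.fromSpec)
  have hg : IsOpenMap g := g.isOpenEmbedding.isOpenMap
  haveI : Nonempty ↑(Spec (CommRingCat.of R)) := by
    have h1 : genericPoint Y ∈ Set.range g := by
      rw [hU.range_fromSpec]; exact hηU
    obtain ⟨t, -⟩ := h1
    exact ⟨t⟩
  haveI hirr : IrreducibleSpace ↑(Spec (CommRingCat.of R)) :=
    irreducibleSpace_of_isOpenEmbedding g g.isOpenEmbedding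
  haveI : IrreducibleSpace (PrimeSpectrum R) := hirr
  exact reduction_gc f g hg (gc_spread_affine_irreducible R (pullback.snd f g)) h

/-- EGA IV 9.7.7 (ii), connected case: spreading out geometric connectedness of the generic
fibre. -/
theorem exists_open_geometricallyConnected (f : X ⟶ Y) [IrreducibleSpace Y]
    [LocallyOfFiniteType f] [QuasiCompact f]
    (h : GeometricallyConnected (f.fiberToSpecResidueField (genericPoint Y))) :
    ∃ V : Y.Opens, (V : Set Y).Nonempty ∧ GeometricallyConnected (f ∣_ V) := by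
  obtain ⟨V, hV, HV⟩ := main_gc f (gc_of_geometricallyConnected f _ h)
  refine ⟨V, hV, ⟨geometrically_iff_of_isClosedUnderIsomorphisms.mpr fun K _ x => ?_⟩⟩
  have h1 : IsPullback (pullback.fst (f ∣_ V) x) (pullback.snd (f ∣_ V) x) (f ∣_ V) x :=
    IsPullback.of_hasPullback _ _
  have h2 : IsPullback (f ⁻¹ᵁ V).ι (f ∣_ V) f V.ι := (isPullback_morphismRestrict f V).flip
  have h3 := h1.paste_horiz h2
  haveI : ConnectedSpace ↑(pullback f (x ≫ V.ι)) := by
    apply HV ((x ≫ V.ι) (IsLocalRing.closedPoint K)) _ K (x ≫ V.ι) ⟨_, rfl⟩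
    rw [Scheme.Hom.comp_apply]
    exact (x (IsLocalRing.closedPoint K)).2
  exact connectedSpace_of_iso h3.isoPullback.symm

end Groth.Agent.Lib.helper11.AbsIrr
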