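import Groth.Agent.Lib.helper11.AbsIrr.ConnCore
import Groth.Agent.Lib.Helper22.SchGeomConn12

/-!
# Spreading out geometric connectedness: integral affine base with separably closed fraction
field (helper11)
-/

set_option autoImplicit false

universe u

open AlgebraicGeometry CategoryTheory Limits

namespace Groth.Agent.Lib.helper11.AbsIrr

open Groth.Agent.Lib.Helper22

variable {X : Scheme.{u}}

theorem isIrreducible_preimage_of_isSepClosed {k : Type u} [Field k] [IsSepClosed k]
    {X₀ : Scheme.{u}} (f₀ : X₀ ⟶ Spec (CommRingCat.of k)) (K : Type u) [Field K] [Algebra k K]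
    (Z : Set X₀) (hZ : Z ∈ irreducibleComponents X₀) :
    IsIrreducible ((FBase.bcπ f₀ K) ⁻¹' Z) := by
  obtain ⟨T, hT, hTZ⟩ := SchGeomConn.exists_irreducibleComponent_image_eq f₀ K Z hZ
  have h1 := SchGeomConn.eq_preimage_closure_image_of_isSepClosed f₀ K T hT
  rw [hTZ, (isClosed_of_mem_irreducibleComponents Z hZ).closure_eq] at h1
  rw [← h1]
  exact hT.1

theorem isIrreducible_preimage_fst_of_factor {Y S S' : Scheme.{u}} (f : X ⟶ Y) (xK : S ⟶ Y)
    (w : S' ⟶ S) (x : S' ⟶ Y) (hx : x = w ≫ xK) (T : Set X)
    (h : IsIrreducible ((pullback.fst (pullback.snd f xK) w) ⁻¹' ((pullback.fst f xK) ⁻¹' T))) :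
    IsIrreducible ((pullback.fst f x) ⁻¹' T) := by
  subst hx
  let e := pullbackLeftPullbackSndIso f xK w
  have he : ∀ z, (pullback.fst f (w ≫ xK)) (e.hom z) =
      (pullback.fst f xK) ((pullback.fst (pullback.snd f xK) w) z) := by
    intro z
    have h1 : (e.hom ≫ pullback.fst f (w ≫ xK)) z =
        (pullback.fst (pullback.snd f xK) w ≫ pullback.fst f xK) z := by
      rw [pullbackLeftPullbackSndIso_hom_fst f xK w]
    rw [Scheme.Hom.comp_apply, Scheme.Hom.comp_apply] at h1
    exact h1
  have heq : (pullback.fst f (w ≫ xK)) ⁻¹' T =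
      e.hom '' ((pullback.fst (pullback.snd f xK) w) ⁻¹' ((pullback.fst f xK) ⁻¹' T)) := by
    ext z
    constructor
    · intro hz
      obtain ⟨z', rfl⟩ := e.hom.homeomorph.surjective z
      refine ⟨z', ?_, rfl⟩
      change (pullback.fst f xK) ((pullback.fst (pullback.snd f xK) w) z') ∈ T
      rw [← he]
      exact hz
    · rintro ⟨z', hz', rfl⟩
      change (pullback.fst f (w ≫ xK)) (e.hom z') ∈ T
      rw [he]
      exact hz'
  rw [heq]
  exact h.image _ e.hom.continuous.continuousOn

theorem gc_spread_of_isSepClosed (A : Type u) [CommRing A] [IsDomain A]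
    [IsSepClosed (FractionRing A)]
    (f : X ⟶ Spec (CommRingCat.of A)) [LocallyOfFiniteType f] [QuasiCompact f]
    (h : GC f (genericPoint ↑(Spec (CommRingCat.of A)))) :
    ∃ V : (Spec (CommRingCat.of A)).Opens, (V : Set ↑(Spec (CommRingCat.of A))).Nonempty ∧
      ∀ y ∈ V, GC f y := by
  classical
  have hηbot : genericPoint ↑(Spec (CommRingCat.of A)) = (⊥ : PrimeSpectrum A) :=
    genericPoint_eq_bot_of_affine (CommRingCat.of A)
  set η := genericPoint ↑(Spec (CommRingCat.of A)) with hη
  let K := FractionRing A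
  let xK : Spec (CommRingCat.of K) ⟶ Spec (CommRingCat.of A) :=
    Spec.map (CommRingCat.ofHom (algebraMap A K))
  haveI : IsPreimmersion xK := IsPreimmersion.of_isLocalization (nonZeroDivisors A)
  have hxK : ∀ pt, xK pt = η := by
    intro pt
    rw [hηbot]
    apply PrimeSpectrum.ext
    rw [specMap_closedPoint_asIdeal]
    exact (RingHom.injective_iff_ker_eq_bot _).mp (IsFractionRing.injective A K)
  let fK : pullback f xK ⟶ Spec (CommRingCat.of K) := pullback.snd f xK
  haveI : IsLocallyNoetherian (pullback f xK) := LocallyOfFiniteType.isLocallyNoetherian fK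
  haveI : CompactSpace ↑(pullback f xK) := inferInstance
  haveI : IsNoetherian (pullback f xK) := { }
  have hfin : (irreducibleComponents ↑(pullback f xK)).Finite :=
    TopologicalSpace.NoetherianSpace.finite_irreducibleComponents
  haveI := hfin.to_subtype
  obtain ⟨n, ⟨e⟩⟩ := Finite.exists_equiv_fin ↥(irreducibleComponents ↑(pullback f xK))
  let C : Fin n → Set ↑(pullback f xK) := fun i => (e.symm i).1
  have hC : ∀ i, C i ∈ irreducibleComponents ↑(pullback f xK) := fun i => (e.symm i).2
  let T : Fin n → Set X := fun i => closure ((pullback.fst f xK) '' C i)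
  have hind : Topology.IsInducing (pullback.fst f xK) :=
    (pullback.fst f xK).isEmbedding.isInducing
  have hTC : ∀ i, (pullback.fst f xK) ⁻¹' T i = C i := by
    intro i
    rw [← hind.closure_eq_preimage_closure_image,
      (isClosed_of_mem_irreducibleComponents _ (hC i)).closure_eq]
  refine gc_spread_core f T (fun i => isClosed_closure) ?_ ?_ h
  · intro i Ω _ x hx
    obtain ⟨ψ, rfl⟩ := Spec.map_surjective x
    algebraize [ψ.hom]
    obtain ⟨pt, hpt⟩ := hx
    have hinj : Function.Injective (algebraMap A Ω) := by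
      rw [RingHom.injective_iff_ker_eq_bot]
      have h1 := congrArg PrimeSpectrum.asIdeal hpt
      rw [← hη, hηbot] at h1
      rw [show Spec.map ψ = Spec.map (CommRingCat.ofHom (algebraMap A Ω)) from rfl,
        specMap_closedPoint_asIdeal] at h1
      exact h1
    letI : Algebra K Ω := (IsFractionRing.lift hinj).toAlgebra
    haveI : IsScalarTower A K Ω :=
      IsScalarTower.of_algebraMap_eq (fun a => (IsFractionRing.lift_algebraMap hinj a).symm)
    let w : Spec (CommRingCat.of Ω) ⟶ Spec (CommRingCat.of K) :=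
      Spec.map (CommRingCat.ofHom (algebraMap K Ω))
    have hfac : Spec.map ψ = w ≫ xK := by
      rw [← Spec.map_comp, ← CommRingCat.ofHom_comp, ← IsScalarTower.algebraMap_eq]
      rfl
    apply isIrreducible_preimage_fst_of_factor f xK w _ hfac
    rw [hTC i]
    exact isIrreducible_preimage_of_isSepClosed fK Ω (C i) (hC i)
  · intro ξ hξ
    obtain ⟨z, hz, -⟩ := Scheme.Pullback.exists_preimage_pullback (f := f) (g := xK) ξ
      (IsLocalRing.closedPoint K) (hξ.trans (hxK _).symm)
    have hzc : irreducibleComponent z ∈ irreducibleComponents ↑(pullback f xK) :=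
      irreducibleComponent_mem_irreducibleComponents z
    refine Set.mem_iUnion.mpr ⟨e ⟨irreducibleComponent z, hzc⟩, subset_closure ⟨z, ?_, hz⟩⟩
    simp only [C, Equiv.symm_apply_apply]
    exact mem_irreducibleComponent

end Groth.Agent.Lib.helper11.AbsIrr
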