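import Mathlib

/-!
# Counting connected components via finite disjoint closed covers (helper11)
-/

set_option autoImplicit false

namespace Groth.Agent.Lib.helper11.AbsIrr

theorem card_connectedComponents_of_homeomorph {α β : Type*} [TopologicalSpace α]
    [TopologicalSpace β] (h : α ≃ₜ β) :
    ENat.card (ConnectedComponents α) = ENat.card (ConnectedComponents β) := by
  refine ENat.card_congr
    { toFun := h.continuous.connectedComponentsMap
      invFun := h.symm.continuous.connectedComponentsMap
      left_inv := ?_
      right_inv := ?_ }
  · intro c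
    obtain ⟨a, rfl⟩ := ConnectedComponents.surjective_coe c
    rw [Continuous.connectedComponentsMap_mk, Continuous.connectedComponentsMap_mk,
      Homeomorph.symm_apply_apply]
  · intro c
    obtain ⟨a, rfl⟩ := ConnectedComponents.surjective_coe c
    rw [Continuous.connectedComponentsMap_mk, Continuous.connectedComponentsMap_mk,
      Homeomorph.apply_symm_apply]

theorem card_connectedComponents_of_bijective {α β : Type*} [TopologicalSpace α]
    [TopologicalSpace β] {p : α → β} (hp : Continuous p)
    (hb : Function.Bijective hp.connectedComponentsMap) :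
    ENat.card (ConnectedComponents α) = ENat.card (ConnectedComponents β) :=
  ENat.card_congr (Equiv.ofBijective _ hb)

theorem card_connectedComponents_of_disjoint_closed_cover {α : Type*} [TopologicalSpace α]
    {n : ℕ} (P : Fin n → Set α) (hcl : ∀ j, IsClosed (P j)) (hconn : ∀ j, IsConnected (P j))
    (hdisj : ∀ j k, j ≠ k → Disjoint (P j) (P k)) (hcov : ⋃ j, P j = Set.univ) :
    ENat.card (ConnectedComponents α) = n := by
  classical
  have hopen : ∀ j, IsOpen (P j) := by
    intro j
    have h1 : P j = (⋃ k ∈ ({j}ᶜ : Set (Fin n)), P k)ᶜ := by
      ext a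
      simp only [Set.mem_compl_iff, Set.mem_iUnion, Set.mem_singleton_iff, exists_prop, not_exists,
        not_and]
      constructor
      · intro ha k hk hak
        exact Set.disjoint_left.mp (hdisj j k (Ne.symm hk)) ha hak
      · intro ha
        have h2 : a ∈ ⋃ j, P j := by rw [hcov]; trivial
        obtain ⟨k, hk⟩ := Set.mem_iUnion.mp h2
        by_cases hkj : k = j
        · rw [← hkj]; exact hk
        · exact absurd hk (ha k hkj)
    rw [h1]
    exact ((Set.toFinite _).isClosed_biUnion fun k _ => hcl k).isOpen_compl
  have hcomp : ∀ j, ∀ a ∈ P j, connectedComponent a = P j := by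
    intro j a ha
    exact subset_antisymm
      (IsClopen.connectedComponent_subset ⟨hcl j, hopen j⟩ ha)
      ((hconn j).isPreconnected.subset_connectedComponent ha)
  let pt : Fin n → α := fun j => (hconn j).nonempty.some
  have hpt : ∀ j, pt j ∈ P j := fun j => (hconn j).nonempty.some_mem
  let φ : Fin n → ConnectedComponents α := fun j => ConnectedComponents.mk (pt j)
  have hφ : Function.Bijective φ := by
    constructor
    · intro j k hjk
      by_contra hne
      have h1 : connectedComponent (pt j) = connectedComponent (pt k) :=
        ConnectedComponents.coe_eq_coe.mp hjk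
      rw [hcomp j _ (hpt j), hcomp k _ (hpt k)] at h1
      have h2 : pt j ∈ P k := by rw [← h1]; exact hpt j
      exact Set.disjoint_left.mp (hdisj j k hne) (hpt j) h2
    · intro c
      obtain ⟨a, rfl⟩ := ConnectedComponents.surjective_coe c
      have h2 : a ∈ ⋃ j, P j := by rw [hcov]; trivial
      obtain ⟨j, hj⟩ := Set.mem_iUnion.mp h2
      refine ⟨j, ?_⟩
      apply ConnectedComponents.coe_eq_coe.mpr
      rw [hcomp j _ (hpt j), hcomp j _ hj]
  rw [← ENat.card_congr (Equiv.ofBijective φ hφ), ENat.card_eq_coe_fintype_card, Fintype.card_fin]

end Groth.Agent.Lib.helper11.AbsIrr
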