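import Groth.Agent.Lib.helper11.AbsIrr.IrrCountRed
import Groth.Agent.S5880

/-!
# Local constructibility of the level sets of the geometric component counts (helper11)
-/

set_option autoImplicit false

universe u

open AlgebraicGeometry CategoryTheory Limits

namespace Groth.Agent.Lib.helper11.AbsIrr

/-- General pattern: a point-function on morphisms which is compatible with base change and
generically constant over irreducible bases has locally constructible level sets for morphisms of
finite presentation. -/
theorem isLocallyConstructible_levelSet {α : Type*}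
    (F : ∀ {X' Y' : Scheme.{u}} (_ : X' ⟶ Y'), Y' → α)
    (hbc : ∀ {X Y X' Y' : Scheme.{u}} (f : X ⟶ Y) (f' : X' ⟶ Y') (g' : X' ⟶ X) (g : Y' ⟶ Y),
      IsPullback g' f' f g → ∀ y' : Y', F f' y' = F f (g y'))
    (hgen : ∀ {X Y : Scheme.{u}} (f : X ⟶ Y) [IrreducibleSpace Y] [LocallyOfFiniteType f]
      [QuasiCompact f], ∃ V : Y.Opens, (V : Set Y).Nonempty ∧ ∀ y ∈ V,
        F f y = F f (genericPoint Y))
    {X Y : Scheme.{u}} (f : X ⟶ Y) [LocallyOfFinitePresentation f] [QuasiCompact f]
    [QuasiSeparated f] (a : α) :
    Topology.IsLocallyConstructible {y : ↑Y | F f y = a} := by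
  let P : ∀ ⦃X Y T : Scheme.{u}⦄, (X ⟶ Y) → (Y ⟶ T) → Prop :=
    fun X Y T _ g => ∀ t : T, F g t = a
  have hlocus : ∀ {X Y S : Scheme.{u}} (f : X ⟶ Y) (g : Y ⟶ S),
      ConsProp.locusMor P f g = {s : S | F g s = a} := by
    intro X Y S f g
    ext s
    have key : ∀ t : ↑(Spec (S.residueField s)), F (g.fiberToSpecResidueField s) t = F g s := by
      intro t
      rw [hbc g (g.fiberToSpecResidueField s) (g.fiberι s) (S.fromSpecResidueField s)
        (IsPullback.of_hasPullback g (S.fromSpecResidueField s)) t]
      congr 1
      exact Scheme.fromSpecResidueField_apply _ _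
    constructor
    · intro hs
      have h1 := hs (IsLocalRing.closedPoint _)
      rw [key] at h1
      exact h1
    · intro hs t
      rw [key]
      exact hs
  have hP : ConsProp.IsConsMor P := by
    refine ⟨?_, ?_⟩
    · intro X X' Y Y' T T' f g f' g' eX eY h _ _ _ _ _ _ _ _ hY _
      constructor
      · intro hg t'
        rw [hbc g g' eY h hY t']
        exact hg _
      · intro hg' t
        obtain ⟨t'⟩ := (inferInstance : Nonempty T')
        have h1 := hg' t'
        rw [hbc g g' eY h hY t'] at h1
        rw [Subsingleton.elim t (h t')]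
        exact h1
    · intro X Y S f g _ _ _ _ _ _
      rw [hlocus f g]
      obtain ⟨V, hV, HV⟩ := hgen g
      by_cases hc : F g (genericPoint S) = a
      · left
        refine hV.mono (interior_maximal ?_ V.isOpen)
        intro y hy
        change F g y = a
        rw [HV y hy, hc]
      · right
        refine hV.mono (interior_maximal ?_ V.isOpen)
        intro y hy
        change ¬ F g y = a
        rw [HV y hy]
        exact hc
  haveI : LocallyOfFinitePresentation (𝟙 X ≫ f) := by rw [Category.id_comp]; infer_instance
  haveI : QuasiCompact (𝟙 X ≫ f) := by rw [Category.id_comp]; infer_instance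
  haveI : QuasiSeparated (𝟙 X ≫ f) := by rw [Category.id_comp]; infer_instance
  have h := Groth.Agent.S5880.result hP (𝟙 X) f
  rw [hlocus (𝟙 X) f] at h
  exact h

end Groth.Agent.Lib.helper11.AbsIrr
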