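import Groth.Agent.Lib.helper11.AbsIrr.ConnRed
import Groth.Agent.Lib.helper11.AbsIrr.CountBasic

/-!
# Constancy of the number of geometric connected components near the generic point: core (helper11)
-/

set_option autoImplicit false

universe u

open AlgebraicGeometry CategoryTheory Limits

namespace Groth.Agent.Lib.helper11.AbsIrr

variable {X Y : Scheme.{u}}

theorem connectedSpace_of_isInducing_of_isConnected_range {A B : Type*} [TopologicalSpace A]
    [TopologicalSpace B] {j : A → B} (hj : Topology.IsInducing j)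
    (h : IsConnected (Set.range j)) : ConnectedSpace A := by
  obtain ⟨⟨b, a, rfl⟩, hpre⟩ := h
  rw [← Set.image_univ, hj.isPreconnected_image] at hpre
  haveI : Nonempty A := ⟨a⟩
  exact { isPreconnected_univ := hpre, toNonempty := inferInstance }

/-- Core: a decomposition of the generic fibre into `n` closed pieces, geometrically connected and
pairwise disjoint, spreads out. -/
theorem nc_spread_core (f : X ⟶ Y) [IrreducibleSpace Y] [LocallyOfFiniteType f] [QuasiCompact f]
    {n : ℕ} (T : Fin n → Set X) (hT : ∀ j, IsClosed (T j))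
    (H1 : ∀ j (Ω : Type u) [Field Ω] (x : Spec (.of Ω) ⟶ Y), genericPoint Y ∈ Set.range x →
      _root_.IsConnected ((pullback.fst f x) ⁻¹' T j))
    (H2 : f ⁻¹' {genericPoint Y} ⊆ ⋃ j, T j)
    (H3 : ∀ j k, j ≠ k → Disjoint (T j ∩ T k) (f ⁻¹' {genericPoint Y})) :
    ∃ V : Y.Opens, (V : Set Y).Nonempty ∧ ∀ y ∈ V, ∀ (Ω : Type u) [Field Ω]
      (x : Spec (.of Ω) ⟶ Y), y ∈ Set.range x →
        ENat.card (_root_.ConnectedComponents ↑(pullback f x)) = n := by
  classical
  set η := genericPoint Y with hη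
  let I : Fin n → X.IdealSheafData := fun i => Scheme.IdealSheafData.vanishingIdeal ⟨T i, hT i⟩
  have hrange : ∀ i, Set.range (I i).subschemeι = T i := fun i => by
    rw [(I i).range_subschemeι]
    exact Scheme.IdealSheafData.coe_support_vanishingIdeal _
  have hGC : ∀ i, GC ((I i).subschemeι ≫ f) η := by
    intro i Ω _ x hx
    have h1 := H1 i Ω x hx
    rw [← hrange i, ← range_pbIncl f (I i).subschemeι x] at h1
    exact connectedSpace_of_isInducing_of_isConnected_range
      (pbIncl f (I i).subschemeι x).isEmbedding.isInducing h1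
  choose Vi hVi HVi using fun i => main_gc ((I i).subschemeι ≫ f) (hGC i)
  obtain ⟨V₀, hV₀, HV₀⟩ := Groth.Agent.S1299.result f (fun i => (f.fiberι η) ⁻¹' T i)
    (fun i => (hT i).preimage (f.fiberι η).continuous) (by
      rw [Set.eq_univ_iff_forall]
      intro t
      have h1 : (f.fiberι η) t ∈ f ⁻¹' {η} := by
        rw [← f.range_fiberι η]; exact ⟨t, rfl⟩
      obtain ⟨i, hi⟩ := Set.mem_iUnion.mp (H2 h1)
      exact Set.mem_iUnion.mpr ⟨i, hi⟩)
  have HV₀' : ∀ y ∈ V₀, ⋃ i, (f.fiberι y) ⁻¹' T i = Set.univ := by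
    intro y hy
    rw [Set.eq_univ_iff_forall]
    intro t
    have h1 : t ∈ ⋃ i, (f.fiberι y) ⁻¹' closure ((f.fiberι η) '' ((f.fiberι η) ⁻¹' T i)) := by
      rw [HV₀ y hy]; trivial
    obtain ⟨i, hi⟩ := Set.mem_iUnion.mp h1
    refine Set.mem_iUnion.mpr ⟨i, ?_⟩
    exact closure_minimal (Set.image_preimage_subset _ _) (hT i) hi
  -- disjointness spreads out
  have hpair : ∀ p : Fin n × Fin n, ∃ V : Y.Opens, η ∈ V ∧
      (p.1 ≠ p.2 → ∀ y ∈ V, y ∉ f '' (T p.1 ∩ T p.2)) := by
    intro p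
    by_cases hne : p.1 = p.2
    · exact ⟨⊤, trivial, fun h => absurd hne h⟩
    · have h1 : η ∉ f '' (T p.1 ∩ T p.2) := by
        rintro ⟨ξ, hξ, hξη⟩
        exact Set.disjoint_left.mp (H3 p.1 p.2 hne) hξ hξη
      have h2 := Groth.Agent.Lib.lead.GenFibreDim.genericPoint_not_mem_closure_image f
        (T p.1 ∩ T p.2) ((hT _).inter (hT _)) h1
      refine ⟨⟨(closure (f '' (T p.1 ∩ T p.2)))ᶜ, isClosed_closure.isOpen_compl⟩, h2, ?_⟩
      intro _ y hy hy'
      exact hy (subset_closure hy')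
  choose Vp hVp HVp using hpair
  have hmemη : ∀ V : Y.Opens, (V : Set Y).Nonempty → η ∈ V := by
    intro V hV
    obtain ⟨v, hv⟩ := hV
    exact ((genericPoint_spec Y).mem_open_set_iff V.isOpen).mpr ⟨v, trivial, hv⟩
  let Vset : Set Y := (V₀ : Set Y) ∩ (⋂ i, (Vi i : Set Y)) ∩ (⋂ p, (Vp p : Set Y))
  have hVopen : IsOpen Vset :=
    (V₀.isOpen.inter (isOpen_iInter_of_finite fun i => (Vi i).isOpen)).inter
      (isOpen_iInter_of_finite fun p => (Vp p).isOpen)
  refine ⟨⟨Vset, hVopen⟩, ⟨η, ⟨hmemη V₀ hV₀, Set.mem_iInter.mpr fun i => hmemη _ (hVi i)⟩,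
    Set.mem_iInter.mpr fun p => (hVp p)⟩, ?_⟩
  rintro y ⟨⟨hy₀, hyi⟩, hyp⟩
  rw [Set.mem_iInter] at hyi hyp
  intro Ω _ x hx
  obtain ⟨pt, hpt⟩ := hx
  have hfy : ∀ z, f ((pullback.fst f x) z) = y := by
    intro z
    have h2 : (pullback.fst f x ≫ f) z = (pullback.snd f x ≫ x) z := by
      rw [pullback.condition]
    rw [Scheme.Hom.comp_apply, Scheme.Hom.comp_apply] at h2
    rw [h2, ← hpt]
    congr 1
    exact Subsingleton.elim _ _
  have hcov : ⋃ i, (pullback.fst f x) ⁻¹' T i = Set.univ := by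
    rw [Set.eq_univ_iff_forall]
    intro z
    have h1 : (pullback.fst f x) z ∈ Set.range (f.fiberι y) := by
      rw [f.range_fiberι y]
      exact hfy z
    obtain ⟨t, ht⟩ := h1
    have h3 : t ∈ ⋃ i, (f.fiberι y) ⁻¹' T i := by rw [HV₀' y hy₀]; trivial
    obtain ⟨i, hi⟩ := Set.mem_iUnion.mp h3
    refine Set.mem_iUnion.mpr ⟨i, ?_⟩
    change (pullback.fst f x) z ∈ T i
    rw [← ht]
    exact hi
  have hconn : ∀ i, _root_.IsConnected ((pullback.fst f x) ⁻¹' T i) := by
    intro i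
    haveI : ConnectedSpace ↑(pullback ((I i).subschemeι ≫ f) x) :=
      HVi i y (hyi i) Ω x ⟨pt, hpt⟩
    rw [← hrange i, ← range_pbIncl f (I i).subschemeι x]
    exact isConnected_range (pbIncl f (I i).subschemeι x).continuous
  have hdisj : ∀ j k, j ≠ k →
      Disjoint ((pullback.fst f x) ⁻¹' T j) ((pullback.fst f x) ⁻¹' T k) := by
    intro j k hjk
    rw [Set.disjoint_left]
    intro z hzj hzk
    exact HVp (j, k) hjk y (hyp (j, k)) ⟨(pullback.fst f x) z, ⟨hzj, hzk⟩, hfy z⟩
  exact card_connectedComponents_of_disjoint_closed_cover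
    (fun i => (pullback.fst f x) ⁻¹' T i)
    (fun i => (hT i).preimage (pullback.fst f x).continuous) hconn hdisj hcov

end Groth.Agent.Lib.helper11.AbsIrr
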