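import Groth.Agent.Lib.helper11.AbsIrr.CountRed
import Groth.Agent.Lib.Helper18.GeomFib.Count

/-!
# Constancy of the number of geometric connected components near a point of its closure (helper11)
-/

set_option autoImplicit false

universe u

open AlgebraicGeometry CategoryTheory Limits

namespace Groth.Agent.Lib.helper11.AbsIrr

variable {X Y : Scheme.{u}}

/-- Reduction of "constant on a relatively open subset of `closure {y}` containing `y`" to the
irreducible case, for a function on points compatible with base change. -/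
theorem exists_relOpen_const_of_irreducible {α : Type*} (f : X ⟶ Y) (y : Y)
    (F : ∀ {X' Y' : Scheme.{u}} (_ : X' ⟶ Y'), Y' → α)
    (hbc : ∀ {Y' : Scheme.{u}} (g : Y' ⟶ Y) (y' : Y'), F (pullback.snd f g) y' = F f (g y'))
    (H : ∀ {Y' : Scheme.{u}} (g : Y' ⟶ Y) [IsClosedImmersion g] [IrreducibleSpace Y'],
      ∃ V : Y'.Opens, (V : Set Y').Nonempty ∧ ∀ y' ∈ V,
        F (pullback.snd f g) y' = F (pullback.snd f g) (genericPoint Y')) :
    ∃ V : Set ↑Y, V ⊆ closure {y} ∧ y ∈ V ∧
      IsOpen (Subtype.val ⁻¹' V : Set ↑(closure ({y} : Set ↑Y))) ∧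
      ∀ y' ∈ V, F f y' = F f y := by
  let I := Scheme.IdealSheafData.vanishingIdeal (X := Y) ⟨closure {y}, isClosed_closure⟩
  let i := I.subschemeι
  have hrange : Set.range i = closure {y} := by
    rw [I.range_subschemeι]
    exact Scheme.IdealSheafData.coe_support_vanishingIdeal _
  haveI : IrreducibleSpace ↑I.subscheme := by
    apply irreducibleSpace_of_isInducing_of_isIrreducible_range i.isEmbedding.isInducing
    rw [hrange]
    exact isIrreducible_singleton.closure
  obtain ⟨W, hW, HW⟩ := H i
  have hgen : i (genericPoint ↑I.subscheme) = y := by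
    have h1 : IsGenericPoint (i (genericPoint ↑I.subscheme)) (closure (i '' Set.univ)) :=
      (genericPoint_spec ↑I.subscheme).image i.continuous
    rw [Set.image_univ, hrange, closure_closure] at h1
    exact h1.eq isGenericPoint_closure
  have hζW : genericPoint ↑I.subscheme ∈ W := by
    obtain ⟨v, hv⟩ := hW
    exact ((genericPoint_spec _).mem_open_set_iff W.isOpen).mpr ⟨v, trivial, hv⟩
  refine ⟨i '' (W : Set ↑I.subscheme), ?_, ⟨_, hζW, hgen⟩, ?_, ?_⟩
  · rw [← hrange]
    exact Set.image_subset_range _ _
  · obtain ⟨O, hO, hOW⟩ := i.isEmbedding.isInducing.isOpen_iff.mp W.isOpen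
    have h1 : (Subtype.val ⁻¹' (i '' (W : Set ↑I.subscheme)) : Set ↑(closure ({y} : Set ↑Y))) =
        Subtype.val ⁻¹' O := by
      ext ⟨t, ht⟩
      simp only [Set.mem_preimage, Set.mem_image]
      constructor
      · rintro ⟨w, hw, rfl⟩
        have : w ∈ i ⁻¹' O := by rw [hOW]; exact hw
        exact this
      · intro htO
        rw [← hrange] at ht
        obtain ⟨w, rfl⟩ := ht
        refine ⟨w, ?_, rfl⟩
        have : w ∈ i ⁻¹' O := htO
        rw [hOW] at this
        exact this
    rw [h1]
    exact hO.preimage continuous_subtype_val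
  · rintro _ ⟨w, hw, rfl⟩
    rw [← hbc i w, HW w hw, hbc i, hgen]

end Groth.Agent.Lib.helper11.AbsIrr
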