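import Groth.Agent.Lib.helper11.AbsIrr.IrrCountBasic
import Groth.Agent.Lib.helper11.AbsIrr.CountBasic

/-!
# Geometric irreducibility / connectedness in terms of the geometric component counts (helper11)
-/

set_option autoImplicit false

universe u

open AlgebraicGeometry CategoryTheory Limits

namespace Groth.Agent.Lib.helper11.AbsIrr

theorem irreducibleSpace_iff_encard_irreducibleComponents {α : Type*} [TopologicalSpace α] :
    IrreducibleSpace α ↔ (irreducibleComponents α).encard = 1 := by
  constructor
  · intro h
    rw [irreducibleComponents_eq_singleton, Set.encard_singleton]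
  · intro h
    obtain ⟨a, ha⟩ := Set.encard_eq_one.mp h
    have huniv : a = Set.univ := by
      rw [Set.eq_univ_iff_forall]
      intro x
      have h1 : irreducibleComponent x ∈ irreducibleComponents α :=
        irreducibleComponent_mem_irreducibleComponents x
      rw [ha, Set.mem_singleton_iff] at h1
      rw [← h1]
      exact mem_irreducibleComponent
    have h2 : a ∈ irreducibleComponents α := by rw [ha]; exact Set.mem_singleton a
    have h3 : IsIrreducible a := h2.1
    rw [huniv] at h3
    exact (irreducibleSpace_def α).mpr h3

theorem connectedSpace_iff_card_connectedComponents {α : Type*} [TopologicalSpace α] :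
    ConnectedSpace α ↔ ENat.card (_root_.ConnectedComponents α) = 1 := by
  rw [ENat.card_eq_one_iff_unique]
  constructor
  · intro h
    haveI : Nonempty (_root_.ConnectedComponents α) := inferInstance
    exact ⟨Classical.choice (nonempty_unique _)⟩
  · rintro ⟨h⟩
    rw [connectedSpace_iff_connectedComponent]
    obtain ⟨x⟩ : Nonempty α := by
      obtain ⟨c⟩ := (inferInstance : Nonempty (_root_.ConnectedComponents α))
      obtain ⟨x, -⟩ := ConnectedComponents.surjective_coe c
      exact ⟨x⟩
    refine ⟨x, ?_⟩
    rw [Set.eq_univ_iff_forall]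
    intro z
    have : (z : _root_.ConnectedComponents α) = (x : _root_.ConnectedComponents α) :=
      Subsingleton.elim _ _
    exact ConnectedComponents.coe_eq_coe'.mp this

variable {X Y : Scheme.{u}}

theorem geometricallyIrreducible_fiber_of_gi (f : X ⟶ Y) (y : Y) (h : GI f y) :
    GeometricallyIrreducible (f.fiberToSpecResidueField y) := by
  rw [geometricallyIrreducible_iff, geometrically_iff_of_isClosedUnderIsomorphisms]
  intro K _ y'
  haveI : IrreducibleSpace ↑(pullback f (y' ≫ Y.fromSpecResidueField y)) := by
    refine h K _ ⟨IsLocalRing.closedPoint K, ?_⟩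
    rw [Scheme.Hom.comp_apply]
    rw [show y' (IsLocalRing.closedPoint K) = IsLocalRing.closedPoint _ from
      Subsingleton.elim _ _]
    exact Scheme.fromSpecResidueField_apply _ _
  exact irreducibleSpace_of_iso
    (pullbackLeftPullbackSndIso f (Y.fromSpecResidueField y) y').symm

theorem geometricallyConnected_fiber_of_gc (f : X ⟶ Y) (y : Y) (h : GC f y) :
    GeometricallyConnected (f.fiberToSpecResidueField y) := by
  rw [geometricallyConnected_iff, geometrically_iff_of_isClosedUnderIsomorphisms]
  intro K _ y'
  haveI : ConnectedSpace ↑(pullback f (y' ≫ Y.fromSpecResidueField y)) := by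
    refine h K _ ⟨IsLocalRing.closedPoint K, ?_⟩
    rw [Scheme.Hom.comp_apply]
    rw [show y' (IsLocalRing.closedPoint K) = IsLocalRing.closedPoint _ from
      Subsingleton.elim _ _]
    exact Scheme.fromSpecResidueField_apply _ _
  exact connectedSpace_of_iso
    (pullbackLeftPullbackSndIso f (Y.fromSpecResidueField y) y').symm

/-- The canonical geometric point over `y` with values in the separable closure. -/
noncomputable def sepPt (Y : Scheme.{u}) (y : Y) :
    Spec (.of (SeparableClosure (Y.residueField y))) ⟶ Y :=
  Spec.map (CommRingCat.ofHom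
      (algebraMap (Y.residueField y) (SeparableClosure (Y.residueField y)))) ≫
    Y.fromSpecResidueField y

theorem sepPt_apply (Y : Scheme.{u}) (y : Y) (pt) : sepPt Y y pt = y := by
  unfold sepPt
  rw [Scheme.Hom.comp_apply]
  rw [show (Spec.map (CommRingCat.ofHom
      (algebraMap (Y.residueField y) (SeparableClosure (Y.residueField y))))) pt =
      IsLocalRing.closedPoint _ from Subsingleton.elim _ _]
  exact Scheme.fromSpecResidueField_apply _ _

theorem gi_of_nGeomIrredComp_eq_one (f : X ⟶ Y) (y : Y) (h : MoreMor.nGeomIrredComp f y = 1) :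
    GI f y := by
  have h0 : (irreducibleComponents ↑(pullback f (sepPt Y y))).encard = 1 := by
    rw [← h]
    unfold MoreMor.nGeomIrredComp MoreMor.geomFiber
    exact (encard_irreducibleComponents_of_iso (pullbackLeftPullbackSndIso f
      (Y.fromSpecResidueField y) (Spec.map (CommRingCat.ofHom
        (algebraMap (Y.residueField y) (SeparableClosure (Y.residueField y))))))).symm
  have h1 : GI (pullback.snd f (sepPt Y y)) (IsLocalRing.closedPoint _) := by
    intro Ω _ x' _
    rw [irreducibleSpace_iff_encard_irreducibleComponents,
      encard_irreducibleComponents_pullback_of_isSepClosed]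
    exact h0
  have h2 := gi_of_gi_pullback_snd f (sepPt Y y) _ h1
  rwa [sepPt_apply] at h2

theorem gc_of_nGeomConnComp_eq_one (f : X ⟶ Y) (y : Y) (h : MoreMor.nGeomConnComp f y = 1) :
    GC f y := by
  have h0 : ENat.card (_root_.ConnectedComponents ↑(pullback f (sepPt Y y))) = 1 := by
    rw [← h]
    unfold MoreMor.nGeomConnComp MoreMor.geomFiber
    exact (card_connectedComponents_of_iso (pullbackLeftPullbackSndIso f
      (Y.fromSpecResidueField y) (Spec.map (CommRingCat.ofHom
        (algebraMap (Y.residueField y) (SeparableClosure (Y.residueField y))))))).symm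
  have h1 : GC (pullback.snd f (sepPt Y y)) (IsLocalRing.closedPoint _) := by
    intro Ω _ x' _
    rw [connectedSpace_iff_card_connectedComponents, card_pullback_of_isSepClosed]
    exact h0
  have h2 := gc_of_gc_pullback_snd f (sepPt Y y) _ h1
  rwa [sepPt_apply] at h2

theorem nGeomIrredComp_eq_one_of_gi (f : X ⟶ Y) (y : Y) (h : GI f y) :
    MoreMor.nGeomIrredComp f y = 1 := by
  refine nGeomIrredComp_eq_of_ni f y 1 ?_
  intro Ω _ _ x hx
  haveI := h Ω x hx
  exact irreducibleSpace_iff_encard_irreducibleComponents.mp inferInstance

theorem nGeomConnComp_eq_one_of_gc (f : X ⟶ Y) (y : Y) (h : GC f y) :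
    MoreMor.nGeomConnComp f y = 1 := by
  refine nGeomConnComp_eq_of_nc f y 1 ?_
  intro Ω _ _ x hx
  haveI := h Ω x hx
  exact connectedSpace_iff_card_connectedComponents.mp inferInstance

theorem geometricallyIrreducible_iff_nGeomIrredComp (f : X ⟶ Y) :
    GeometricallyIrreducible f ↔ ∀ y : Y, MoreMor.nGeomIrredComp f y = 1 := by
  rw [geometricallyIrreducible_iff, geometrically_iff_forall_fiberToSpecResidueField]
  constructor
  · intro h y
    exact nGeomIrredComp_eq_one_of_gi f y
      (gi_of_geometricallyIrreducible f y ((geometricallyIrreducible_iff _).mpr (h y)))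
  · intro h y
    rw [← geometricallyIrreducible_iff]
    exact geometricallyIrreducible_fiber_of_gi f y (gi_of_nGeomIrredComp_eq_one f y (h y))

theorem geometricallyConnected_iff_nGeomConnComp (f : X ⟶ Y) :
    GeometricallyConnected f ↔ ∀ y : Y, MoreMor.nGeomConnComp f y = 1 := by
  rw [geometricallyConnected_iff, geometrically_iff_forall_fiberToSpecResidueField]
  constructor
  · intro h y
    exact nGeomConnComp_eq_one_of_gc f y
      (gc_of_geometricallyConnected f y ((geometricallyConnected_iff _).mpr (h y)))
  · intro h y
    rw [← geometricallyConnected_iff]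
    exact geometricallyConnected_fiber_of_gc f y (gc_of_nGeomConnComp_eq_one f y (h y))

end Groth.Agent.Lib.helper11.AbsIrr
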