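import Groth.Agent.Lib.helper11.AbsIrr.CountSep

/-!
# Constancy of the number of geometric connected components near the generic point (helper11)
-/

set_option autoImplicit false

universe u

open AlgebraicGeometry CategoryTheory Limits

namespace Groth.Agent.Lib.helper11.AbsIrr

variable {X Y : Scheme.{u}}

/-- integral affine base -/
theorem nc_spread_domain (A : Type u) [CommRing A] [IsDomain A]
    (f : X ⟶ Spec (CommRingCat.of A)) [LocallyOfFiniteType f] [QuasiCompact f] :
    ∃ V : (Spec (CommRingCat.of A)).Opens, (V : Set ↑(Spec (CommRingCat.of A))).Nonempty ∧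
      ∃ n : ℕ∞, ∀ y ∈ V, NC f y n := by
  let K := FractionRing A
  let Kb := AlgebraicClosure K
  let S : Type u := ↥(integralClosure A Kb)
  haveI : Algebra.IsAlgebraic A K := IsLocalization.isAlgebraic K (nonZeroDivisors A)
  haveI : Algebra.IsAlgebraic A Kb := Algebra.IsAlgebraic.trans A K Kb
  have hinjKb : Function.Injective (algebraMap A Kb) := by
    rw [IsScalarTower.algebraMap_eq A K Kb]
    exact (algebraMap K Kb).injective.comp (IsFractionRing.injective A K)
  haveI : IsFractionRing S Kb :=
    integralClosure.isFractionRing_of_algebraic (fun x hx => hinjKb (hx.trans (map_zero _).symm))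
  have hinjS : Function.Injective (algebraMap A S) := by
    intro a b hab
    apply hinjKb
    rw [IsScalarTower.algebraMap_apply A S Kb, IsScalarTower.algebraMap_apply A S Kb, hab]
  haveI : FaithfulSMul A S := (faithfulSMul_iff_algebraMap_injective A S).mpr hinjS
  haveI : IsSepClosed (FractionRing S) := by
    haveI : IsAlgClosed (FractionRing S) :=
      IsAlgClosed.of_ringEquiv (k := Kb) (FractionRing S) (FractionRing.algEquiv S Kb).symm.toRingEquiv
    infer_instance
  let g : Spec (CommRingCat.of S) ⟶ Spec (CommRingCat.of A) :=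
    Spec.map (CommRingCat.ofHom (algebraMap A S))
  exact reduction_nc_weak f g (weak_open_of_integral A S)
    (nc_spread_of_isSepClosed S (pullback.snd f g))

/-- irreducible affine base -/
theorem nc_spread_affine_irreducible (R : Type u) [CommRing R]
    [IrreducibleSpace (PrimeSpectrum R)]
    (f : X ⟶ Spec (CommRingCat.of R)) [LocallyOfFiniteType f] [QuasiCompact f] :
    ∃ V : (Spec (CommRingCat.of R)).Opens, (V : Set ↑(Spec (CommRingCat.of R))).Nonempty ∧
      ∃ n : ℕ∞, ∀ y ∈ V, NC f y n := by
  haveI hprime : (nilradical R).IsPrime :=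
    (PrimeSpectrum.irreducibleSpace_iff_isPrime_nilradical).mp inferInstance
  let A := R ⧸ nilradical R
  haveI : IsDomain A := Ideal.Quotient.isDomain _
  let g : Spec (CommRingCat.of A) ⟶ Spec (CommRingCat.of R) :=
    Spec.map (CommRingCat.ofHom (Ideal.Quotient.mk (nilradical R)))
  have hg : IsOpenMap g := by
    have hh : IsHomeomorph (PrimeSpectrum.comap (Ideal.Quotient.mk (nilradical R))) :=
      PrimeSpectrum.isHomeomorph_comap _
        (fun x => ⟨1, Nat.one_pos, by rw [pow_one]; exact Ideal.Quotient.mk_surjective x⟩)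
        (by rw [Ideal.mk_ker])
    exact hh.isOpenMap
  exact reduction_nc f g hg (nc_spread_domain A (pullback.snd f g))

/-- the general statement for an irreducible base -/
theorem main_nc (f : X ⟶ Y) [IrreducibleSpace Y] [LocallyOfFiniteType f] [QuasiCompact f] :
    ∃ V : Y.Opens, (V : Set Y).Nonempty ∧ ∃ n : ℕ∞, ∀ y ∈ V, NC f y n := by
  obtain ⟨U, hU, hηU, -⟩ := exists_isAffineOpen_mem_and_subset (U := (⊤ : Y.Opens))
    (x := genericPoint Y) (by simp)
  let R : Type u := Γ(Y, U)
  let g : Spec (CommRingCat.of R) ⟶ Y := hU.fromSpec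
  haveI : IsOpenImmersion g := inferInstanceAs (IsOpenImmersion hU.fromSpec)
  have hg : IsOpenMap g := g.isOpenEmbedding.isOpenMap
  haveI : Nonempty ↑(Spec (CommRingCat.of R)) := by
    have h1 : genericPoint Y ∈ Set.range g := by
      rw [hU.range_fromSpec]; exact hηU
    obtain ⟨t, -⟩ := h1
    exact ⟨t⟩
  haveI hirr : IrreducibleSpace ↑(Spec (CommRingCat.of R)) :=
    irreducibleSpace_of_isOpenEmbedding g g.isOpenEmbedding
  haveI : IrreducibleSpace (PrimeSpectrum R) := hirr
  exact reduction_nc f g hg (nc_spread_affine_irreducible R (pullback.snd f g))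

/-- For an irreducible base: the number of geometric connected components is constant on a
nonempty open. -/
theorem exists_open_nGeomConnComp_const (f : X ⟶ Y) [IrreducibleSpace Y] [LocallyOfFiniteType f]
    [QuasiCompact f] :
    ∃ V : Y.Opens, (V : Set Y).Nonempty ∧ ∀ y ∈ V,
      MoreMor.nGeomConnComp f y = MoreMor.nGeomConnComp f (genericPoint Y) := by
  obtain ⟨V, hV, n, HV⟩ := main_nc f
  have hη : genericPoint Y ∈ V := by
    obtain ⟨v, hv⟩ := hV
    exact ((genericPoint_spec Y).mem_open_set_iff V.isOpen).mpr ⟨v, trivial, hv⟩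
  refine ⟨V, hV, fun y hy => ?_⟩
  rw [nGeomConnComp_eq_of_nc f y n (HV y hy), nGeomConnComp_eq_of_nc f _ n (HV _ hη)]

end Groth.Agent.Lib.helper11.AbsIrr
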