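import Groth.Agent.Lib.helper11.AbsIrr.CountCore
import Groth.Agent.Lib.Helper12.MilnM

/-!
# Constancy of the number of geometric connected components: integral affine base with separably
closed fraction field (helper11)
-/

set_option autoImplicit false

universe u

open AlgebraicGeometry CategoryTheory Limits

namespace Groth.Agent.Lib.helper11.AbsIrr

open Groth.Agent.Lib.Helper22

variable {X : Scheme.{u}}

theorem preimage_fst_eq_image_of_factor {Y S S' : Scheme.{u}} (f : X ⟶ Y) (xK : S ⟶ Y)
    (w : S' ⟶ S) (T : Set X) :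
    (pullback.fst f (w ≫ xK)) ⁻¹' T = (pullbackLeftPullbackSndIso f xK w).hom ''
      ((pullback.fst (pullback.snd f xK) w) ⁻¹' ((pullback.fst f xK) ⁻¹' T)) := by
  let e := pullbackLeftPullbackSndIso f xK w
  have he : ∀ z, (pullback.fst f (w ≫ xK)) (e.hom z) =
      (pullback.fst f xK) ((pullback.fst (pullback.snd f xK) w) z) := by
    intro z
    have h1 : (e.hom ≫ pullback.fst f (w ≫ xK)) z =
        (pullback.fst (pullback.snd f xK) w ≫ pullback.fst f xK) z := by
      rw [pullbackLeftPullbackSndIso_hom_fst f xK w]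
    rw [Scheme.Hom.comp_apply, Scheme.Hom.comp_apply] at h1
    exact h1
  ext z
  constructor
  · intro hz
    obtain ⟨z', rfl⟩ := e.hom.homeomorph.surjective z
    refine ⟨z', ?_, rfl⟩
    change (pullback.fst f xK) ((pullback.fst (pullback.snd f xK) w) z') ∈ T
    rw [← he]
    exact hz
  · rintro ⟨z', hz', rfl⟩
    change (pullback.fst f (w ≫ xK)) (e.hom z') ∈ T
    rw [he]
    exact hz'

theorem isConnected_preimage_fst_of_factor {Y S S' : Scheme.{u}} (f : X ⟶ Y) (xK : S ⟶ Y)
    (w : S' ⟶ S) (x : S' ⟶ Y) (hx : x = w ≫ xK) (T : Set X)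
    (h : _root_.IsConnected
      ((pullback.fst (pullback.snd f xK) w) ⁻¹' ((pullback.fst f xK) ⁻¹' T))) :
    _root_.IsConnected ((pullback.fst f x) ⁻¹' T) := by
  subst hx
  rw [preimage_fst_eq_image_of_factor]
  exact h.image _ (pullbackLeftPullbackSndIso f xK w).hom.continuous.continuousOn

theorem nc_spread_of_isSepClosed (A : Type u) [CommRing A] [IsDomain A]
    [IsSepClosed (FractionRing A)]
    (f : X ⟶ Spec (CommRingCat.of A)) [LocallyOfFiniteType f] [QuasiCompact f] :
    ∃ V : (Spec (CommRingCat.of A)).Opens, (V : Set ↑(Spec (CommRingCat.of A))).Nonempty ∧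
      ∃ n : ℕ∞, ∀ y ∈ V, NC f y n := by
  classical
  have hηbot : genericPoint ↑(Spec (CommRingCat.of A)) = (⊥ : PrimeSpectrum A) :=
    genericPoint_eq_bot_of_affine (CommRingCat.of A)
  set η := genericPoint ↑(Spec (CommRingCat.of A)) with hη
  let K := FractionRing A
  let xK : Spec (CommRingCat.of K) ⟶ Spec (CommRingCat.of A) :=
    Spec.map (CommRingCat.ofHom (algebraMap A K))
  haveI : IsPreimmersion xK := IsPreimmersion.of_isLocalization (nonZeroDivisors A)
  have hxK : ∀ pt, xK pt = η := by
    intro pt
    rw [hηbot]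
    apply PrimeSpectrum.ext
    rw [specMap_closedPoint_asIdeal]
    exact (RingHom.injective_iff_ker_eq_bot _).mp (IsFractionRing.injective A K)
  let fK : pullback f xK ⟶ Spec (CommRingCat.of K) := pullback.snd f xK
  haveI : IsLocallyNoetherian (pullback f xK) := LocallyOfFiniteType.isLocallyNoetherian fK
  haveI : CompactSpace ↑(pullback f xK) := inferInstance
  haveI : IsNoetherian (pullback f xK) := { }
  haveI hfin : Finite (_root_.ConnectedComponents ↑(pullback f xK)) :=
    Groth.Agent.Lib.Helper12.Miln.finite_connectedComponents_of_noetherianSpace _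
  obtain ⟨n, ⟨e⟩⟩ := Finite.exists_equiv_fin (_root_.ConnectedComponents ↑(pullback f xK))
  have hrep : ∀ j : Fin n, ∃ z : ↑(pullback f xK), _root_.ConnectedComponents.mk z = e.symm j :=
    fun j => _root_.ConnectedComponents.surjective_coe (e.symm j)
  choose rep hrepj using hrep
  let D : Fin n → Set ↑(pullback f xK) := fun j => connectedComponent (rep j)
  have hDmem : ∀ z : ↑(pullback f xK), z ∈ D (e (_root_.ConnectedComponents.mk z)) := by
    intro z
    have h1 : _root_.ConnectedComponents.mk (rep (e (_root_.ConnectedComponents.mk z))) =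
        _root_.ConnectedComponents.mk z := by
      rw [hrepj, Equiv.symm_apply_apply]
    have h2 := _root_.ConnectedComponents.coe_eq_coe.mp h1
    change z ∈ connectedComponent (rep (e (_root_.ConnectedComponents.mk z)))
    rw [h2]
    exact mem_connectedComponent
  have hDdisj : ∀ j k, j ≠ k → Disjoint (D j) (D k) := by
    intro j k hjk
    rw [Set.disjoint_left]
    intro z hzj hzk
    apply hjk
    have h1 : connectedComponent (rep j) = connectedComponent z := connectedComponent_eq hzj
    have h2 : connectedComponent (rep k) = connectedComponent z := connectedComponent_eq hzk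
    have h3 : _root_.ConnectedComponents.mk (rep j) = _root_.ConnectedComponents.mk (rep k) :=
      _root_.ConnectedComponents.coe_eq_coe.mpr (h1.trans h2.symm)
    rw [hrepj, hrepj] at h3
    exact e.symm.injective h3
  let T : Fin n → Set X := fun j => closure ((pullback.fst f xK) '' D j)
  have hind : Topology.IsInducing (pullback.fst f xK) :=
    (pullback.fst f xK).isEmbedding.isInducing
  have hTD : ∀ j, (pullback.fst f xK) ⁻¹' T j = D j := by
    intro j
    rw [← hind.closure_eq_preimage_closure_image, isClosed_connectedComponent.closure_eq]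
  suffices hsuff : ∃ V : (Spec (CommRingCat.of A)).Opens,
      (V : Set ↑(Spec (CommRingCat.of A))).Nonempty ∧ ∀ y ∈ V, ∀ (Ω : Type u) [Field Ω]
      (x : Spec (.of Ω) ⟶ Spec (CommRingCat.of A)), y ∈ Set.range x →
        ENat.card (_root_.ConnectedComponents ↑(pullback f x)) = n by
    obtain ⟨V, hV, HV⟩ := hsuff
    exact ⟨V, hV, (n : ℕ∞), fun y hy Ω _ _ x hx => HV y hy Ω x hx⟩
  refine nc_spread_core f T (fun j => isClosed_closure) ?_ ?_ ?_
  · intro j Ω _ x hx
    obtain ⟨ψ, rfl⟩ := Spec.map_surjective x
    algebraize [ψ.hom]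
    obtain ⟨pt, hpt⟩ := hx
    have hinj : Function.Injective (algebraMap A Ω) := by
      rw [RingHom.injective_iff_ker_eq_bot]
      have h1 := congrArg PrimeSpectrum.asIdeal hpt
      rw [← hη, hηbot] at h1
      rw [show Spec.map ψ = Spec.map (CommRingCat.ofHom (algebraMap A Ω)) from rfl,
        specMap_closedPoint_asIdeal] at h1
      exact h1
    letI : Algebra K Ω := (IsFractionRing.lift hinj).toAlgebra
    haveI : IsScalarTower A K Ω :=
      IsScalarTower.of_algebraMap_eq (fun a => (IsFractionRing.lift_algebraMap hinj a).symm)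
    let w : Spec (CommRingCat.of Ω) ⟶ Spec (CommRingCat.of K) :=
      Spec.map (CommRingCat.ofHom (algebraMap K Ω))
    have hfac : Spec.map ψ = w ≫ xK := by
      rw [← Spec.map_comp, ← CommRingCat.ofHom_comp, ← IsScalarTower.algebraMap_eq]
      rfl
    apply isConnected_preimage_fst_of_factor f xK w _ hfac
    rw [hTD j]
    exact SchGeomConn.isConnected_preimage_connectedComponent_of_isSepClosed fK (rep j) Ω
  · intro ξ hξ
    obtain ⟨z, hz, -⟩ := Scheme.Pullback.exists_preimage_pullback (f := f) (g := xK) ξ
      (IsLocalRing.closedPoint K) (hξ.trans (hxK _).symm)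
    exact Set.mem_iUnion.mpr ⟨e (_root_.ConnectedComponents.mk z),
      subset_closure ⟨z, hDmem z, hz⟩⟩
  · intro j k hjk
    rw [Set.disjoint_left]
    rintro ξ ⟨hξj, hξk⟩ hξ
    obtain ⟨z, hz, -⟩ := Scheme.Pullback.exists_preimage_pullback (f := f) (g := xK) ξ
      (IsLocalRing.closedPoint K) (hξ.trans (hxK _).symm)
    have hzj : z ∈ D j := by
      rw [← hTD j]; change (pullback.fst f xK) z ∈ T j; rw [hz]; exact hξj
    have hzk : z ∈ D k := by
      rw [← hTD k]; change (pullback.fst f xK) z ∈ T k; rw [hz]; exact hξk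
    exact Set.disjoint_left.mp (hDdisj j k hjk) hzj hzk

end Groth.Agent.Lib.helper11.AbsIrr
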