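import Mathlib

/-!
# Fibres of a localised hypersurface are domains (helper11)
-/

set_option autoImplicit false

namespace Groth.Agent.Lib.helper11.AbsIrr

open MvPolynomial TensorProduct

universe u

variable {A : Type u} [CommRing A] {ι : Type u} (F D : MvPolynomial ι A)

/-- the hypersurface algebra -/
abbrev HypAlg (F : MvPolynomial ι A) := MvPolynomial ι A ⧸ Ideal.span {F}

/-- the localised hypersurface algebra -/
abbrev HypLoc (F D : MvPolynomial ι A) :=
  Localization.Away (Ideal.Quotient.mk (Ideal.span {F}) D)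

noncomputable example : Algebra A (HypLoc F D) := inferInstance
example : IsScalarTower A (HypAlg F) (HypLoc F D) := inferInstance

variable (Ω : Type u) [Field Ω] [Algebra A Ω]

/-- `Ω ⊗ A[x]/(F) ≃ Ω[x]/(F)` -/
noncomputable def tensorHypEquiv :
    Ω ⊗[A] HypAlg F ≃+* MvPolynomial ι Ω ⧸ Ideal.span {MvPolynomial.map (algebraMap A Ω) F} :=
  (Algebra.TensorProduct.tensorQuotientEquiv (R := A) Ω (MvPolynomial ι A) Ω
    (Ideal.span {F})).toRingEquiv.trans
    (Ideal.quotientEquiv _ _ (algebraTensorAlgEquiv A Ω).toRingEquiv (by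
      rw [Ideal.map_span, Set.image_singleton, Ideal.map_span, Set.image_singleton]
      congr 2
      simp))

theorem isDomain_tensor_hypAlg (hirr : Irreducible (MvPolynomial.map (algebraMap A Ω) F)) :
    IsDomain (Ω ⊗[A] HypAlg F) := by
  have hprime : Prime (MvPolynomial.map (algebraMap A Ω) F) :=
    UniqueFactorizationMonoid.irreducible_iff_prime.mp hirr
  haveI : (Ideal.span {MvPolynomial.map (algebraMap A Ω) F}).IsPrime :=
    (Ideal.span_singleton_prime hprime.ne_zero).mpr hprime
  exact Function.Injective.isDomain (tensorHypEquiv F Ω).toRingHom (tensorHypEquiv F Ω).injective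

end Groth.Agent.Lib.helper11.AbsIrr

namespace Groth.Agent.Lib.helper11.AbsIrr

open MvPolynomial TensorProduct

universe u

variable {A : Type u} [CommRing A] {ι : Type u} (F D : MvPolynomial ι A)
variable (Ω : Type u) [Field Ω] [Algebra A Ω]

end Groth.Agent.Lib.helper11.AbsIrr

namespace Groth.Agent.Lib.helper11.AbsIrr

open TensorProduct

section abstract

universe u₁ u₂ u₃ u₄

variable {A : Type u₁} [CommRing A] (C : Type u₂) [CommRing C] [Algebra A C]
  (T : Type u₃) [CommRing T] [Algebra A T] [Algebra C T] [IsScalarTower A C T]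
  (Ω : Type u₄) [Field Ω] [Algebra A Ω]

/-- the base change of `C → T` to `Ω` -/
noncomputable def tensorLocHom : Ω ⊗[A] C →ₐ[Ω] Ω ⊗[A] T :=
  Algebra.TensorProduct.map (AlgHom.id Ω Ω) (IsScalarTower.toAlgHom A C T)

/-- base change of a localisation of a domain-fibred algebra -/
theorem isDomain_tensor_of_isLocalization (M : Submonoid C) [IsLocalization M T]
    [IsDomain (Ω ⊗[A] C)] [Nontrivial (Ω ⊗[A] T)] : IsDomain (Ω ⊗[A] T) := by
  letI : Algebra (Ω ⊗[A] C) (Ω ⊗[A] T) := (tensorLocHom C T Ω).toRingHom.toAlgebra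
  haveI : IsScalarTower Ω (Ω ⊗[A] C) (Ω ⊗[A] T) :=
    ⟨fun c x y => by
      change tensorLocHom C T Ω (c • x) * y = c • (tensorLocHom C T Ω x * y)
      rw [map_smul, smul_mul_assoc]⟩
  have hloc : IsLocalization
      (M.map (Algebra.TensorProduct.includeRight (R := A) (A := Ω) (B := C)))
      (Ω ⊗[A] T) := by
    refine IsLocalization.tensorProduct_tensorProduct_right A Ω M T ?_
    ext x
    change tensorLocHom C T Ω ((1 : Ω) ⊗ₜ x) = _
    simp [tensorLocHom]
  haveI := hloc
  refine IsLocalization.isDomain_of_le_nonZeroDivisors (Ω ⊗[A] T)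
    (M := M.map (Algebra.TensorProduct.includeRight (R := A) (A := Ω) (B := C))) ?_
  intro x hx
  rw [mem_nonZeroDivisors_iff_ne_zero]
  rintro rfl
  have hu := IsLocalization.map_units (Ω ⊗[A] T)
    (⟨0, hx⟩ : M.map (Algebra.TensorProduct.includeRight (R := A) (A := Ω) (B := C)))
  rw [map_zero] at hu
  exact not_isUnit_zero hu

end abstract

end Groth.Agent.Lib.helper11.AbsIrr

namespace Groth.Agent.Lib.helper11.AbsIrr

open MvPolynomial TensorProduct

universe u

variable {A : Type u} [CommRing A] {ι : Type u} (F D : MvPolynomial ι A)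
variable (Ω : Type u) [Field Ω] [Algebra A Ω]

theorem isDomain_tensor_hypLoc (hirr : Irreducible (MvPolynomial.map (algebraMap A Ω) F))
    [Nontrivial (Ω ⊗[A] HypLoc F D)] : IsDomain (Ω ⊗[A] HypLoc F D) := by
  haveI := isDomain_tensor_hypAlg F Ω hirr
  exact isDomain_tensor_of_isLocalization (HypAlg F) (HypLoc F D) Ω
    (Submonoid.powers (Ideal.Quotient.mk (Ideal.span {F}) D))

end Groth.Agent.Lib.helper11.AbsIrr
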