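import Groth.Agent.Lib.helper11.AbsIrr.KerIrr

/-!
# Hypersurface model of a finitely generated extension of a perfect field (helper11)
-/

set_option autoImplicit false

namespace Groth.Agent.Lib.helper11.AbsIrr

open MvPolynomial IntermediateField

universe u v

variable (K : Type u) (L : Type v) [Field K] [Field L] [Algebra K L]

/-- wrapper of `exists_irreducible_ker_aux` with the algebraicity hypothesis in subalgebra form -/
theorem exists_irreducible_ker {ι : Type*} (s : ι → L) (hs : AlgebraicIndependent K s) (θ : L)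
    (hθ : IsAlgebraic (Algebra.adjoin K (Set.range s)) θ) :
    ∃ F : MvPolynomial (Option ι) K, Irreducible F ∧
      ∀ G, aeval (fun o : Option ι => o.elim θ s) G = 0 ↔ F ∣ G := by
  refine exists_irreducible_ker_aux s hs θ ?_
  obtain ⟨p, hp0, hp⟩ := hθ
  let ee := hs.aevalEquiv
  refine ⟨p.map (ee.symm : Algebra.adjoin K (Set.range s) →+* MvPolynomial ι K), ?_, ?_⟩
  · rw [Ne, Polynomial.map_eq_zero_iff ee.symm.injective]
    exact hp0
  · rw [Polynomial.eval₂_map, ← hp, Polynomial.aeval_def]
    congr 1
    ext x
    obtain ⟨y, rfl⟩ := ee.surjective x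
    simp only [RingHom.coe_comp, Function.comp_apply]
    change aeval s (ee.symm (ee y)) = algebraMap _ L (ee y)
    rw [AlgEquiv.symm_apply_apply]
    rfl

theorem exists_fieldModel [PerfectField K] [Algebra.EssFiniteType K L] :
    ∃ (ι : Type v) (_ : Finite ι) (a : ι → L) (F : MvPolynomial ι K),
      adjoin K (Set.range a) = ⊤ ∧ Irreducible F ∧ ∀ G, aeval a G = 0 ↔ F ∣ G := by
  classical
  obtain ⟨s, hs, hsep⟩ := exists_isTranscendenceBasis_and_isSeparable_of_perfectField K L
  set M := adjoin K (s : Set L) with hM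
  haveI : Algebra.EssFiniteType M L := Algebra.EssFiniteType.of_comp K M L
  haveI : Algebra.IsAlgebraic M L := Algebra.IsSeparable.isAlgebraic M L
  haveI : Module.Finite M L := Algebra.finite_of_essFiniteType_of_isAlgebraic
  obtain ⟨θ, hθ⟩ := Field.exists_primitive_element M L
  have halg : Algebra.IsAlgebraic (Algebra.adjoin K (Set.range ((↑) : s → L))) L :=
    hs.isAlgebraic
  obtain ⟨F, hF, hker⟩ := exists_irreducible_ker K L ((↑) : s → L) hs.1 θ
    (halg.isAlgebraic θ)
  refine ⟨Option s, inferInstance, fun o => o.elim θ (↑), F, ?_, hF, hker⟩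
  have hrange : Set.range (fun o : Option s => o.elim θ ((↑) : s → L)) = (s : Set L) ∪ {θ} := by
    ext x
    simp only [Set.mem_range, Set.mem_union, Finset.mem_coe, Set.mem_singleton_iff]
    constructor
    · rintro ⟨o, rfl⟩
      cases o with
      | none => right; rfl
      | some i => left; exact i.2
    · rintro (h | h)
      · exact ⟨some ⟨x, h⟩, rfl⟩
      · exact ⟨none, h.symm⟩
  rw [hrange, ← adjoin_adjoin_left, hθ, restrictScalars_top]

end Groth.Agent.Lib.helper11.AbsIrr
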