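import Mathlib

/-!
# Counting irreducible components via finite closed irreducible covers (helper11)
-/

set_option autoImplicit false

namespace Groth.Agent.Lib.helper11.AbsIrr

theorem exists_subset_of_isIrreducible_of_finite_closed_cover {α : Type*} [TopologicalSpace α]
    {n : ℕ} (P : Fin n → Set α) (hcl : ∀ j, IsClosed (P j)) (S : Set α) (hS : IsIrreducible S)
    (hcov : S ⊆ ⋃ j, P j) : ∃ j, S ⊆ P j := by
  classical
  have h := isIrreducible_iff_sUnion_isClosed.mp hS (Finset.univ.image P)
    (by
      intro z hz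
      obtain ⟨j, -, rfl⟩ := Finset.mem_image.mp hz
      exact hcl j)
    (by
      intro a ha
      obtain ⟨j, hj⟩ := Set.mem_iUnion.mp (hcov ha)
      exact Set.mem_sUnion.mpr ⟨P j, by simp, hj⟩)
  obtain ⟨z, hz, hSz⟩ := h
  obtain ⟨j, -, rfl⟩ := Finset.mem_image.mp hz
  exact ⟨j, hSz⟩

theorem encard_irreducibleComponents_of_cover {α : Type*} [TopologicalSpace α] {n : ℕ}
    (P : Fin n → Set α) (hcl : ∀ j, IsClosed (P j)) (hirr : ∀ j, IsIrreducible (P j))
    (hcov : ⋃ j, P j = Set.univ) (hne : ∀ j, ¬ P j ⊆ ⋃ k ∈ {k : Fin n | k ≠ j}, P k) :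
    (irreducibleComponents α).encard = n := by
  classical
  have hsub : ∀ j k, P j ⊆ P k → j = k := by
    intro j k hjk
    by_contra hne'
    exact hne j (fun a ha => Set.mem_biUnion (show k ∈ {k : Fin n | k ≠ j} from Ne.symm hne')
      (hjk ha))
  have hinj : Function.Injective P := fun j k hjk => hsub j k hjk.le
  have hmax : ∀ j, P j ∈ irreducibleComponents α := by
    intro j
    refine ⟨hirr j, fun S hS hjS => ?_⟩
    obtain ⟨k, hk⟩ := exists_subset_of_isIrreducible_of_finite_closed_cover P hcl S hS
      (by rw [hcov]; exact Set.subset_univ _)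
    have := hsub j k (hjS.trans hk)
    subst this
    exact hk
  have heq : irreducibleComponents α = Set.range P := by
    ext S
    constructor
    · intro hS
      obtain ⟨k, hk⟩ := exists_subset_of_isIrreducible_of_finite_closed_cover P hcl S hS.1
        (by rw [hcov]; exact Set.subset_univ _)
      exact ⟨k, (subset_antisymm (hS.2 (hirr k) hk) hk)⟩
    · rintro ⟨j, rfl⟩
      exact hmax j
  rw [heq, ← Set.image_univ, hinj.encard_image, Set.encard_univ, ENat.card_eq_coe_fintype_card,
    Fintype.card_fin]

theorem image_mem_irreducibleComponents_of_homeomorph {γ δ : Type*} [TopologicalSpace γ]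
    [TopologicalSpace δ] (e : γ ≃ₜ δ) (s : Set γ) (hs : s ∈ irreducibleComponents γ) :
    e '' s ∈ irreducibleComponents δ := by
  refine ⟨hs.1.image e e.continuous.continuousOn, fun t ht hst => ?_⟩
  have h1 : IsIrreducible (e.symm '' t) := ht.image e.symm e.symm.continuous.continuousOn
  have h2 : s ⊆ e.symm '' t := by
    intro a ha
    exact ⟨e a, hst ⟨a, ha, rfl⟩, e.symm_apply_apply a⟩
  have h3 := hs.2 h1 h2
  intro b hb
  exact ⟨e.symm b, h3 ⟨b, hb, rfl⟩, e.apply_symm_apply b⟩

theorem encard_irreducibleComponents_of_homeomorph {α β : Type*} [TopologicalSpace α]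
    [TopologicalSpace β] (h : α ≃ₜ β) :
    (irreducibleComponents α).encard = (irreducibleComponents β).encard := by
  have himg : (fun s : Set α => h '' s) '' irreducibleComponents α = irreducibleComponents β := by
    ext t
    constructor
    · rintro ⟨s, hs, rfl⟩
      exact image_mem_irreducibleComponents_of_homeomorph h s hs
    · intro ht
      refine ⟨h.symm '' t, image_mem_irreducibleComponents_of_homeomorph h.symm t ht, ?_⟩
      ext b
      constructor
      · rintro ⟨a, ⟨b', hb', rfl⟩, rfl⟩
        rwa [h.apply_symm_apply]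
      · intro hb
        exact ⟨h.symm b, ⟨b, hb, rfl⟩, h.apply_symm_apply b⟩
  rw [← himg]
  exact (Function.Injective.encard_image (Set.image_injective.mpr h.injective) _).symm

end Groth.Agent.Lib.helper11.AbsIrr
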