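import Groth.Agent.Lib.helper11.AbsIrr.SchDense
import Groth.Agent.Lib.helper11.AbsIrr.IrrCountTop
import Groth.Agent.Lib.Helper18.GeomFib.SepClosed
import Groth.Prelude.Def_MoreMor

/-!
# Number of irreducible components of geometric fibres: basics (helper11)
-/

set_option autoImplicit false

universe u

open AlgebraicGeometry CategoryTheory Limits

namespace Groth.Agent.Lib.helper11.AbsIrr

variable {X Y : Scheme.{u}}

/-- `NI f y n`: every geometric fibre of `f` at `y` over a separably closed field has exactly `n`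
irreducible components. -/
def NI (f : X ⟶ Y) (y : Y) (n : ℕ∞) : Prop :=
  ∀ (Ω : Type u) [Field Ω] [IsSepClosed Ω] (x : Spec (.of Ω) ⟶ Y), y ∈ Set.range x →
    (irreducibleComponents ↑(pullback f x)).encard = n

theorem encard_irreducibleComponents_of_iso {P Q : Scheme.{u}} (e : P ≅ Q) :
    (irreducibleComponents ↑P).encard = (irreducibleComponents ↑Q).encard :=
  encard_irreducibleComponents_of_homeomorph e.hom.homeomorph

theorem nGeomIrredComp_eq_of_ni (f : X ⟶ Y) (y : Y) (n : ℕ∞) (h : NI f y n) :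
    MoreMor.nGeomIrredComp f y = n := by
  unfold MoreMor.nGeomIrredComp MoreMor.geomFiber
  refine Eq.trans (encard_irreducibleComponents_of_iso (pullbackLeftPullbackSndIso f
    (Y.fromSpecResidueField y) (Spec.map (CommRingCat.ofHom
      (algebraMap (Y.residueField y) (SeparableClosure (Y.residueField y))))))) ?_
  refine h (SeparableClosure (Y.residueField y)) _ ⟨IsLocalRing.closedPoint _, ?_⟩
  rw [Scheme.Hom.comp_apply, Scheme.fromSpecResidueField_apply]

theorem encard_irreducibleComponents_pullback_of_isSepClosed {Ω Ω' : Type u} [Field Ω] [Field Ω']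
    [IsSepClosed Ω] {X₀ : Scheme.{u}} (f₀ : X₀ ⟶ Spec (CommRingCat.of Ω))
    (w : Spec (CommRingCat.of Ω') ⟶ Spec (CommRingCat.of Ω)) :
    (irreducibleComponents ↑(pullback f₀ w)).encard = (irreducibleComponents ↑X₀).encard := by
  obtain ⟨ψ, rfl⟩ := Spec.map_surjective w
  algebraize [ψ.hom]
  haveI : GeometricallyIrreducible (Spec.map (CommRingCat.ofHom (algebraMap Ω Ω'))) :=
    Groth.Agent.Lib.Helper18.GeomFib.geometricallyIrreducible_specMap
  haveI : GeometricallyIrreducible (Spec.map ψ) := this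
  exact Set.encard_congr ((pullback.fst f₀ (Spec.map ψ)).irreducibleComponentsEquiv
    (pullback.fst f₀ (Spec.map ψ)).isOpenMap)

section BC

variable (f : X ⟶ Y) {Y' : Scheme.{u}} (g : Y' ⟶ Y)

theorem ni_pullback_snd_of_ni (y' : Y') (n : ℕ∞) (h : NI f (g y') n) :
    NI (pullback.snd f g) y' n := by
  intro Ω _ _ x' hx'
  obtain ⟨pt, hpt⟩ := hx'
  rw [encard_irreducibleComponents_of_iso (pullbackLeftPullbackSndIso f g x')]
  exact h Ω (x' ≫ g) ⟨pt, by rw [Scheme.Hom.comp_apply, hpt]⟩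

theorem ni_of_ni_pullback_snd (y' : Y') (n : ℕ∞) (h : NI (pullback.snd f g) y' n) :
    NI f (g y') n := by
  intro Ω _ _ x hx
  obtain ⟨pt, hpt⟩ := hx
  obtain ⟨z, hz1, hz2⟩ := Scheme.Pullback.exists_preimage_pullback (f := x) (g := g) pt y' hpt
  let κ : Type u := (pullback x g).residueField z
  let Ω' : Type u := SeparableClosure κ
  let zmap : Spec (.of κ) ⟶ pullback x g := (pullback x g).fromSpecResidueField z
  let s : Spec (.of Ω') ⟶ Spec (.of κ) := Spec.map (CommRingCat.ofHom (algebraMap κ Ω'))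
  let x' : Spec (.of Ω') ⟶ Y' := s ≫ zmap ≫ pullback.snd x g
  let w : Spec (.of Ω') ⟶ Spec (.of Ω) := s ≫ zmap ≫ pullback.fst x g
  have e : x' ≫ g = w ≫ x := by
    simp only [x', w, Category.assoc, pullback.condition]
  have hx' : y' ∈ Set.range x' := by
    refine ⟨IsLocalRing.closedPoint Ω', ?_⟩
    rw [Scheme.Hom.comp_apply, Scheme.Hom.comp_apply]
    rw [show zmap (s (IsLocalRing.closedPoint Ω')) = z from
      Scheme.fromSpecResidueField_apply _ _]
    exact hz2
  have h1 : (irreducibleComponents ↑(pullback (pullback.snd f g) x')).encard = n :=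
    h Ω' x' hx'
  rw [encard_irreducibleComponents_of_iso (pullbackLeftPullbackSndIso f g x'),
    encard_irreducibleComponents_of_iso (pullback.congrHom rfl e),
    ← encard_irreducibleComponents_of_iso (pullbackLeftPullbackSndIso f x w),
    encard_irreducibleComponents_pullback_of_isSepClosed (pullback.snd f x) w] at h1
  exact h1

end BC

section RL

/-- Weak reduction lemma for the count of irreducible components of geometric fibres. -/
theorem reduction_ni_weak (f : X ⟶ Y) {Y' : Scheme.{u}} (g : Y' ⟶ Y)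
    (hg : ∀ V' : Y'.Opens, (V' : Set Y').Nonempty →
      ∃ V : Y.Opens, (V : Set Y).Nonempty ∧ (V : Set Y) ⊆ g '' (V' : Set Y'))
    (H : ∃ V' : Y'.Opens, (V' : Set Y').Nonempty ∧ ∃ n : ℕ∞,
      ∀ y' ∈ V', NI (pullback.snd f g) y' n) :
    ∃ V : Y.Opens, (V : Set Y).Nonempty ∧ ∃ n : ℕ∞, ∀ y ∈ V, NI f y n := by
  obtain ⟨V', hV', n, HV'⟩ := H
  obtain ⟨V, hV, hVV'⟩ := hg V' hV'
  refine ⟨V, hV, n, ?_⟩
  intro y hy
  obtain ⟨y', hy', rfl⟩ := hVV' hy
  exact ni_of_ni_pullback_snd f g y' n (HV' y' hy')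

theorem reduction_ni (f : X ⟶ Y) {Y' : Scheme.{u}} (g : Y' ⟶ Y) (hg : IsOpenMap g)
    (H : ∃ V' : Y'.Opens, (V' : Set Y').Nonempty ∧ ∃ n : ℕ∞,
      ∀ y' ∈ V', NI (pullback.snd f g) y' n) :
    ∃ V : Y.Opens, (V : Set Y).Nonempty ∧ ∃ n : ℕ∞, ∀ y ∈ V, NI f y n :=
  reduction_ni_weak f g
    (fun V' hV' => ⟨⟨g '' (V' : Set Y'), hg _ V'.isOpen⟩, hV'.image _, subset_rfl⟩) H

end RL

end Groth.Agent.Lib.helper11.AbsIrr
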