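import Groth.Agent.Lib.helper11.AbsIrr.ConnCore
import Groth.Agent.Lib.helper11.AbsIrr.IrrCountBasic

/-!
# Constancy of the number of geometric irreducible components near the generic point: core
(helper11)
-/

set_option autoImplicit false

universe u

open AlgebraicGeometry CategoryTheory Limits

namespace Groth.Agent.Lib.helper11.AbsIrr

variable {X Y : Scheme.{u}}

/-- Core: a decomposition of the generic fibre into `n` closed geometrically irreducible pieces,
none contained in the union of the others, spreads out. -/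
theorem ni_spread_core (f : X ⟶ Y) [IrreducibleSpace Y] [LocallyOfFiniteType f] [QuasiCompact f]
    {n : ℕ} (T : Fin n → Set X) (hT : ∀ j, IsClosed (T j))
    (H1 : ∀ j (Ω : Type u) [Field Ω] (x : Spec (.of Ω) ⟶ Y), genericPoint Y ∈ Set.range x →
      IsIrreducible ((pullback.fst f x) ⁻¹' T j))
    (H2 : f ⁻¹' {genericPoint Y} ⊆ ⋃ j, T j)
    (H3 : ∀ j, ∃ ξ ∈ T j, f ξ = genericPoint Y ∧ ∀ k, k ≠ j → ξ ∉ T k) :
    ∃ V : Y.Opens, (V : Set Y).Nonempty ∧ ∀ y ∈ V, ∀ (Ω : Type u) [Field Ω]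
      (x : Spec (.of Ω) ⟶ Y), y ∈ Set.range x →
        (irreducibleComponents ↑(pullback f x)).encard = n := by
  classical
  set η := genericPoint Y with hη
  let I : Fin n → X.IdealSheafData := fun i => Scheme.IdealSheafData.vanishingIdeal ⟨T i, hT i⟩
  have hrange : ∀ i, Set.range (I i).subschemeι = T i := fun i => by
    rw [(I i).range_subschemeι]
    exact Scheme.IdealSheafData.coe_support_vanishingIdeal _
  have hGI : ∀ i, GI ((I i).subschemeι ≫ f) η := by
    intro i Ω _ x hx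
    have h1 := H1 i Ω x hx
    rw [← hrange i, ← range_pbIncl f (I i).subschemeι x] at h1
    exact irreducibleSpace_of_isInducing_of_isIrreducible_range
      (pbIncl f (I i).subschemeι x).isEmbedding.isInducing h1
  choose Vi hVi HVi using fun i => main_gi ((I i).subschemeι ≫ f) (hGI i)
  obtain ⟨V₀, hV₀, HV₀⟩ := Groth.Agent.S1299.result f (fun i => (f.fiberι η) ⁻¹' T i)
    (fun i => (hT i).preimage (f.fiberι η).continuous) (by
      rw [Set.eq_univ_iff_forall]
      intro t
      have h1 : (f.fiberι η) t ∈ f ⁻¹' {η} := by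
        rw [← f.range_fiberι η]; exact ⟨t, rfl⟩
      obtain ⟨i, hi⟩ := Set.mem_iUnion.mp (H2 h1)
      exact Set.mem_iUnion.mpr ⟨i, hi⟩)
  have HV₀' : ∀ y ∈ V₀, ⋃ i, (f.fiberι y) ⁻¹' T i = Set.univ := by
    intro y hy
    rw [Set.eq_univ_iff_forall]
    intro t
    have h1 : t ∈ ⋃ i, (f.fiberι y) ⁻¹' closure ((f.fiberι η) '' ((f.fiberι η) ⁻¹' T i)) := by
      rw [HV₀ y hy]; trivial
    obtain ⟨i, hi⟩ := Set.mem_iUnion.mp h1
    refine Set.mem_iUnion.mpr ⟨i, ?_⟩
    exact closure_minimal (Set.image_preimage_subset _ _) (hT i) hi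
  -- the other pieces are nowhere dense in each piece, fibrewise near the generic point
  let B : Fin n → Set X := fun j => ⋃ k ∈ {k : Fin n | k ≠ j}, T k
  have hB : ∀ j, IsClosed (B j) := fun j => (Set.toFinite _).isClosed_biUnion fun k _ => hT k
  have hnd : ∀ j, ∃ V : Y.Opens, (V : Set Y).Nonempty ∧ ∀ y ∈ V,
      IsNowhereDense ((((I j).subschemeι ≫ f).fiberι y) ⁻¹' ((I j).subschemeι ⁻¹' B j)) := by
    intro j
    have hcl : IsClosed ((I j).subschemeι ⁻¹' B j) := (hB j).preimage (I j).subschemeι.continuous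
    haveI : IrreducibleSpace ↑(((I j).subschemeι ≫ f).fiber η) :=
      hGI j _ (Y.fromSpecResidueField η)
        ⟨IsLocalRing.closedPoint _, Scheme.fromSpecResidueField_apply _ _⟩
    refine Groth.Agent.S1298.result ((I j).subschemeι ≫ f) _ hcl ?_
    apply isNowhereDense_of_isClosed_of_compl_nonempty _
      (hcl.preimage (((I j).subschemeι ≫ f).fiberι η).continuous)
    obtain ⟨ξ, hξj, hξη, hξk⟩ := H3 j
    rw [← hrange j] at hξj
    obtain ⟨ξ', rfl⟩ := hξj
    have h1 : ξ' ∈ Set.range (((I j).subschemeι ≫ f).fiberι η) := by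
      rw [((I j).subschemeι ≫ f).range_fiberι η]
      change ((I j).subschemeι ≫ f) ξ' = η
      rw [Scheme.Hom.comp_apply]
      exact hξη
    obtain ⟨t, ht⟩ := h1
    refine ⟨t, ?_⟩
    intro hmem
    change (I j).subschemeι ((((I j).subschemeι ≫ f).fiberι η) t) ∈ B j at hmem
    rw [ht] at hmem
    obtain ⟨k, hk, hξ'k⟩ := Set.mem_iUnion₂.mp hmem
    exact hξk k hk hξ'k
  choose Vn hVn HVn using hnd
  have hmemη : ∀ V : Y.Opens, (V : Set Y).Nonempty → η ∈ V := by
    intro V hV
    obtain ⟨v, hv⟩ := hV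
    exact ((genericPoint_spec Y).mem_open_set_iff V.isOpen).mpr ⟨v, trivial, hv⟩
  let Vset : Set Y := (V₀ : Set Y) ∩ (⋂ i, (Vi i : Set Y)) ∩ (⋂ i, (Vn i : Set Y))
  have hVopen : IsOpen Vset :=
    (V₀.isOpen.inter (isOpen_iInter_of_finite fun i => (Vi i).isOpen)).inter
      (isOpen_iInter_of_finite fun i => (Vn i).isOpen)
  refine ⟨⟨Vset, hVopen⟩, ⟨η, ⟨hmemη V₀ hV₀, Set.mem_iInter.mpr fun i => hmemη _ (hVi i)⟩,
    Set.mem_iInter.mpr fun i => hmemη _ (hVn i)⟩, ?_⟩
  rintro y ⟨⟨hy₀, hyi⟩, hyn⟩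
  rw [Set.mem_iInter] at hyi hyn
  intro Ω _ x hx
  obtain ⟨pt, hpt⟩ := hx
  have hfy : ∀ z, f ((pullback.fst f x) z) = y := by
    intro z
    have h2 : (pullback.fst f x ≫ f) z = (pullback.snd f x ≫ x) z := by
      rw [pullback.condition]
    rw [Scheme.Hom.comp_apply, Scheme.Hom.comp_apply] at h2
    rw [h2, ← hpt]
    congr 1
    exact Subsingleton.elim _ _
  have hcov : ⋃ i, (pullback.fst f x) ⁻¹' T i = Set.univ := by
    rw [Set.eq_univ_iff_forall]
    intro z
    have h1 : (pullback.fst f x) z ∈ Set.range (f.fiberι y) := by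
      rw [f.range_fiberι y]
      exact hfy z
    obtain ⟨t, ht⟩ := h1
    have h3 : t ∈ ⋃ i, (f.fiberι y) ⁻¹' T i := by rw [HV₀' y hy₀]; trivial
    obtain ⟨i, hi⟩ := Set.mem_iUnion.mp h3
    refine Set.mem_iUnion.mpr ⟨i, ?_⟩
    change (pullback.fst f x) z ∈ T i
    rw [← ht]
    exact hi
  have hirr : ∀ i, IsIrreducible ((pullback.fst f x) ⁻¹' T i) := by
    intro i
    haveI : IrreducibleSpace ↑(pullback ((I i).subschemeι ≫ f) x) :=
      HVi i y (hyi i) Ω x ⟨pt, hpt⟩
    rw [← hrange i, ← range_pbIncl f (I i).subschemeι x, ← Set.image_univ]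
    exact (IrreducibleSpace.isIrreducible_univ _).image _
      (pbIncl f (I i).subschemeι x).continuous.continuousOn
  have hne : ∀ j, ¬ (pullback.fst f x) ⁻¹' T j ⊆
      ⋃ k ∈ {k : Fin n | k ≠ j}, (pullback.fst f x) ⁻¹' T k := by
    intro j hsub
    haveI : IrreducibleSpace ↑(pullback ((I j).subschemeι ≫ f) x) :=
      HVi j y (hyi j) Ω x ⟨pt, hpt⟩
    have hcl : IsClosed ((I j).subschemeι ⁻¹' B j) := (hB j).preimage (I j).subschemeι.continuous
    have hd := dense_compl_of_isNowhereDense _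
      (hcl.preimage (((I j).subschemeι ≫ f).fiberι y).continuous) (HVn j y (hyn j))
    rw [← Set.preimage_compl] at hd
    have hd' := dense_preimage_fst_of_dense_fiber ((I j).subschemeι ≫ f) y _ hd x ⟨pt, hpt⟩
    obtain ⟨z', hz'⟩ := hd'.nonempty
    have hz'' : (I j).subschemeι ((pullback.fst ((I j).subschemeι ≫ f) x) z') ∉ B j := hz'
    have hfst : (pullback.fst f x) ((pbIncl f (I j).subschemeι x) z') =
        (I j).subschemeι ((pullback.fst ((I j).subschemeι ≫ f) x) z') := by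
      have h1 : (pbIncl f (I j).subschemeι x ≫ pullback.fst f x) z' =
          (pullback.fst ((I j).subschemeι ≫ f) x ≫ (I j).subschemeι) z' := by
        rw [pbIncl_fst]
      rw [Scheme.Hom.comp_apply, Scheme.Hom.comp_apply] at h1
      exact h1
    have hzj : (pbIncl f (I j).subschemeι x) z' ∈ (pullback.fst f x) ⁻¹' T j := by
      change (pullback.fst f x) ((pbIncl f (I j).subschemeι x) z') ∈ T j
      rw [hfst, ← hrange j]
      exact ⟨_, rfl⟩
    obtain ⟨k, hk, hzk⟩ := Set.mem_iUnion₂.mp (hsub hzj)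
    apply hz''
    rw [← hfst]
    exact Set.mem_biUnion hk hzk
  exact encard_irreducibleComponents_of_cover (fun i => (pullback.fst f x) ⁻¹' T i)
    (fun i => (hT i).preimage (pullback.fst f x).continuous) hirr hcov hne

end Groth.Agent.Lib.helper11.AbsIrr
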