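import Groth.Agent.Lib.helper11.AbsIrr.IrrCountCore
import Groth.Agent.Lib.helper11.AbsIrr.CountFinal

/-!
# Constancy of the number of geometric irreducible components near the generic point (helper11)
-/

set_option autoImplicit false

universe u

open AlgebraicGeometry CategoryTheory Limits

namespace Groth.Agent.Lib.helper11.AbsIrr

open Groth.Agent.Lib.Helper22

variable {X Y : Scheme.{u}}

theorem ni_spread_of_isSepClosed (A : Type u) [CommRing A] [IsDomain A]
    [IsSepClosed (FractionRing A)]
    (f : X ⟶ Spec (CommRingCat.of A)) [LocallyOfFiniteType f] [QuasiCompact f] :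
    ∃ V : (Spec (CommRingCat.of A)).Opens, (V : Set ↑(Spec (CommRingCat.of A))).Nonempty ∧
      ∃ n : ℕ∞, ∀ y ∈ V, NI f y n := by
  classical
  have hηbot : genericPoint ↑(Spec (CommRingCat.of A)) = (⊥ : PrimeSpectrum A) :=
    genericPoint_eq_bot_of_affine (CommRingCat.of A)
  set η := genericPoint ↑(Spec (CommRingCat.of A)) with hη
  let K := FractionRing A
  let xK : Spec (CommRingCat.of K) ⟶ Spec (CommRingCat.of A) :=
    Spec.map (CommRingCat.ofHom (algebraMap A K))
  haveI : IsPreimmersion xK := IsPreimmersion.of_isLocalization (nonZeroDivisors A)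
  have hxK : ∀ pt, xK pt = η := by
    intro pt
    rw [hηbot]
    apply PrimeSpectrum.ext
    rw [specMap_closedPoint_asIdeal]
    exact (RingHom.injective_iff_ker_eq_bot _).mp (IsFractionRing.injective A K)
  let fK : pullback f xK ⟶ Spec (CommRingCat.of K) := pullback.snd f xK
  haveI : IsLocallyNoetherian (pullback f xK) := LocallyOfFiniteType.isLocallyNoetherian fK
  haveI : CompactSpace ↑(pullback f xK) := inferInstance
  haveI : IsNoetherian (pullback f xK) := { }
  have hfin : (irreducibleComponents ↑(pullback f xK)).Finite :=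
    TopologicalSpace.NoetherianSpace.finite_irreducibleComponents
  haveI := hfin.to_subtype
  obtain ⟨n, ⟨e⟩⟩ := Finite.exists_equiv_fin ↥(irreducibleComponents ↑(pullback f xK))
  let C : Fin n → Set ↑(pullback f xK) := fun i => (e.symm i).1
  have hC : ∀ i, C i ∈ irreducibleComponents ↑(pullback f xK) := fun i => (e.symm i).2
  have hCinj : Function.Injective C := fun i j hij =>
    e.symm.injective (Subtype.ext hij)
  let T : Fin n → Set X := fun i => closure ((pullback.fst f xK) '' C i)
  have hind : Topology.IsInducing (pullback.fst f xK) :=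
    (pullback.fst f xK).isEmbedding.isInducing
  have hTC : ∀ i, (pullback.fst f xK) ⁻¹' T i = C i := by
    intro i
    rw [← hind.closure_eq_preimage_closure_image,
      (isClosed_of_mem_irreducibleComponents _ (hC i)).closure_eq]
  suffices hsuff : ∃ V : (Spec (CommRingCat.of A)).Opens,
      (V : Set ↑(Spec (CommRingCat.of A))).Nonempty ∧ ∀ y ∈ V, ∀ (Ω : Type u) [Field Ω]
      (x : Spec (.of Ω) ⟶ Spec (CommRingCat.of A)), y ∈ Set.range x →
        (irreducibleComponents ↑(pullback f x)).encard = n by
    obtain ⟨V, hV, HV⟩ := hsuff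
    exact ⟨V, hV, (n : ℕ∞), fun y hy Ω _ _ x hx => HV y hy Ω x hx⟩
  refine ni_spread_core f T (fun j => isClosed_closure) ?_ ?_ ?_
  · intro i Ω _ x hx
    obtain ⟨ψ, rfl⟩ := Spec.map_surjective x
    algebraize [ψ.hom]
    obtain ⟨pt, hpt⟩ := hx
    have hinj : Function.Injective (algebraMap A Ω) := by
      rw [RingHom.injective_iff_ker_eq_bot]
      have h1 := congrArg PrimeSpectrum.asIdeal hpt
      rw [← hη, hηbot] at h1
      rw [show Spec.map ψ = Spec.map (CommRingCat.ofHom (algebraMap A Ω)) from rfl,
        specMap_closedPoint_asIdeal] at h1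
      exact h1
    letI : Algebra K Ω := (IsFractionRing.lift hinj).toAlgebra
    haveI : IsScalarTower A K Ω :=
      IsScalarTower.of_algebraMap_eq (fun a => (IsFractionRing.lift_algebraMap hinj a).symm)
    let w : Spec (CommRingCat.of Ω) ⟶ Spec (CommRingCat.of K) :=
      Spec.map (CommRingCat.ofHom (algebraMap K Ω))
    have hfac : Spec.map ψ = w ≫ xK := by
      rw [← Spec.map_comp, ← CommRingCat.ofHom_comp, ← IsScalarTower.algebraMap_eq]
      rfl
    apply isIrreducible_preimage_fst_of_factor f xK w _ hfac
    rw [hTC i]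
    exact isIrreducible_preimage_of_isSepClosed fK Ω (C i) (hC i)
  · intro ξ hξ
    obtain ⟨z, hz, -⟩ := Scheme.Pullback.exists_preimage_pullback (f := f) (g := xK) ξ
      (IsLocalRing.closedPoint K) (hξ.trans (hxK _).symm)
    have hzc : irreducibleComponent z ∈ irreducibleComponents ↑(pullback f xK) :=
      irreducibleComponent_mem_irreducibleComponents z
    refine Set.mem_iUnion.mpr ⟨e ⟨irreducibleComponent z, hzc⟩, subset_closure ⟨z, ?_, hz⟩⟩
    simp only [C, Equiv.symm_apply_apply]
    exact mem_irreducibleComponent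
  · intro j
    -- a point of `C j` outside the other components
    have h1 : ¬ C j ⊆ ⋃ k ∈ {k : Fin n | k ≠ j}, C k := by
      intro hsub
      have hsub' : C j ⊆ ⋃ k, (if k = j then (∅ : Set ↑(pullback f xK)) else C k) := by
        intro a ha
        obtain ⟨k, hk, hak⟩ := Set.mem_iUnion₂.mp (hsub ha)
        refine Set.mem_iUnion.mpr ⟨k, ?_⟩
        rw [if_neg hk]
        exact hak
      obtain ⟨k, hk⟩ := exists_subset_of_isIrreducible_of_finite_closed_cover
        (fun k => if k = j then (∅ : Set ↑(pullback f xK)) else C k)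
        (fun k => by
          by_cases hkj : k = j
          · simp [hkj]
          · simp only [hkj, if_false]
            exact isClosed_of_mem_irreducibleComponents _ (hC k))
        (C j) (hC j).1 hsub'
      by_cases hkj : k = j
      · simp only [hkj, if_true] at hk
        exact (hC j).1.nonempty.ne_empty (Set.subset_empty_iff.mp hk)
      · simp only [hkj, if_false] at hk
        have h2 : C j = C k := subset_antisymm hk ((hC j).2 (hC k).1 hk)
        exact hkj (hCinj h2).symm
    obtain ⟨z, hzj, hznot⟩ := Set.not_subset.mp h1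
    refine ⟨(pullback.fst f xK) z, subset_closure ⟨z, hzj, rfl⟩, ?_, ?_⟩
    · have h2 : (pullback.fst f xK ≫ f) z = (pullback.snd f xK ≫ xK) z := by
        rw [pullback.condition]
      rw [Scheme.Hom.comp_apply, Scheme.Hom.comp_apply] at h2
      rw [h2]
      exact hxK _
    · intro k hk hmem
      have hzk : z ∈ C k := by
        rw [← hTC k]
        exact hmem
      exact hznot (Set.mem_biUnion hk hzk)

/-- integral affine base -/
theorem ni_spread_domain (A : Type u) [CommRing A] [IsDomain A]
    (f : X ⟶ Spec (CommRingCat.of A)) [LocallyOfFiniteType f] [QuasiCompact f] :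
    ∃ V : (Spec (CommRingCat.of A)).Opens, (V : Set ↑(Spec (CommRingCat.of A))).Nonempty ∧
      ∃ n : ℕ∞, ∀ y ∈ V, NI f y n := by
  let K := FractionRing A
  let Kb := AlgebraicClosure K
  let S : Type u := ↥(integralClosure A Kb)
  haveI : Algebra.IsAlgebraic A K := IsLocalization.isAlgebraic K (nonZeroDivisors A)
  haveI : Algebra.IsAlgebraic A Kb := Algebra.IsAlgebraic.trans A K Kb
  have hinjKb : Function.Injective (algebraMap A Kb) := by
    rw [IsScalarTower.algebraMap_eq A K Kb]
    exact (algebraMap K Kb).injective.comp (IsFractionRing.injective A K)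
  haveI : IsFractionRing S Kb :=
    integralClosure.isFractionRing_of_algebraic (fun x hx => hinjKb (hx.trans (map_zero _).symm))
  have hinjS : Function.Injective (algebraMap A S) := by
    intro a b hab
    apply hinjKb
    rw [IsScalarTower.algebraMap_apply A S Kb, IsScalarTower.algebraMap_apply A S Kb, hab]
  haveI : FaithfulSMul A S := (faithfulSMul_iff_algebraMap_injective A S).mpr hinjS
  haveI : IsSepClosed (FractionRing S) := by
    haveI : IsAlgClosed (FractionRing S) :=
      IsAlgClosed.of_ringEquiv (k := Kb) (FractionRing S) (FractionRing.algEquiv S Kb).symm.toRingEquiv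
    infer_instance
  let g : Spec (CommRingCat.of S) ⟶ Spec (CommRingCat.of A) :=
    Spec.map (CommRingCat.ofHom (algebraMap A S))
  exact reduction_ni_weak f g (weak_open_of_integral A S)
    (ni_spread_of_isSepClosed S (pullback.snd f g))

/-- irreducible affine base -/
theorem ni_spread_affine_irreducible (R : Type u) [CommRing R]
    [IrreducibleSpace (PrimeSpectrum R)]
    (f : X ⟶ Spec (CommRingCat.of R)) [LocallyOfFiniteType f] [QuasiCompact f] :
    ∃ V : (Spec (CommRingCat.of R)).Opens, (V : Set ↑(Spec (CommRingCat.of R))).Nonempty ∧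
      ∃ n : ℕ∞, ∀ y ∈ V, NI f y n := by
  haveI hprime : (nilradical R).IsPrime :=
    (PrimeSpectrum.irreducibleSpace_iff_isPrime_nilradical).mp inferInstance
  let A := R ⧸ nilradical R
  haveI : IsDomain A := Ideal.Quotient.isDomain _
  let g : Spec (CommRingCat.of A) ⟶ Spec (CommRingCat.of R) :=
    Spec.map (CommRingCat.ofHom (Ideal.Quotient.mk (nilradical R)))
  have hg : IsOpenMap g := by
    have hh : IsHomeomorph (PrimeSpectrum.comap (Ideal.Quotient.mk (nilradical R))) :=
      PrimeSpectrum.isHomeomorph_comap _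
        (fun x => ⟨1, Nat.one_pos, by rw [pow_one]; exact Ideal.Quotient.mk_surjective x⟩)
        (by rw [Ideal.mk_ker])
    exact hh.isOpenMap
  exact reduction_ni f g hg (ni_spread_domain A (pullback.snd f g))

/-- the general statement for an irreducible base -/
theorem main_ni (f : X ⟶ Y) [IrreducibleSpace Y] [LocallyOfFiniteType f] [QuasiCompact f] :
    ∃ V : Y.Opens, (V : Set Y).Nonempty ∧ ∃ n : ℕ∞, ∀ y ∈ V, NI f y n := by
  obtain ⟨U, hU, hηU, -⟩ := exists_isAffineOpen_mem_and_subset (U := (⊤ : Y.Opens))
    (x := genericPoint Y) (by simp)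
  let R : Type u := Γ(Y, U)
  let g : Spec (CommRingCat.of R) ⟶ Y := hU.fromSpec
  haveI : IsOpenImmersion g := inferInstanceAs (IsOpenImmersion hU.fromSpec)
  have hg : IsOpenMap g := g.isOpenEmbedding.isOpenMap
  haveI : Nonempty ↑(Spec (CommRingCat.of R)) := by
    have h1 : genericPoint Y ∈ Set.range g := by
      rw [hU.range_fromSpec]; exact hηU
    obtain ⟨t, -⟩ := h1
    exact ⟨t⟩
  haveI hirr : IrreducibleSpace ↑(Spec (CommRingCat.of R)) :=
    irreducibleSpace_of_isOpenEmbedding g g.isOpenEmbedding
  haveI : IrreducibleSpace (PrimeSpectrum R) := hirr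
  exact reduction_ni f g hg (ni_spread_affine_irreducible R (pullback.snd f g))

/-- For an irreducible base: the number of geometric irreducible components is constant on a
nonempty open. -/
theorem exists_open_nGeomIrredComp_const (f : X ⟶ Y) [IrreducibleSpace Y]
    [LocallyOfFiniteType f] [QuasiCompact f] :
    ∃ V : Y.Opens, (V : Set Y).Nonempty ∧ ∀ y ∈ V,
      MoreMor.nGeomIrredComp f y = MoreMor.nGeomIrredComp f (genericPoint Y) := by
  obtain ⟨V, hV, n, HV⟩ := main_ni f
  have hη : genericPoint Y ∈ V := by
    obtain ⟨v, hv⟩ := hV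
    exact ((genericPoint_spec Y).mem_open_set_iff V.isOpen).mpr ⟨v, trivial, hv⟩
  refine ⟨V, hV, fun y hy => ?_⟩
  rw [nGeomIrredComp_eq_of_ni f y n (HV y hy), nGeomIrredComp_eq_of_ni f _ n (HV _ hη)]

end Groth.Agent.Lib.helper11.AbsIrr
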