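import Mathlib

/-!
# The relation ideal of a transcendence basis plus one algebraic element is principal (helper11)

If `s : ι → L` is algebraically independent over the field `K` and `θ ∈ L` is algebraic over
`K(s)`, then the kernel of `K[x_ι, T] → L`, `x_i ↦ s i`, `T ↦ θ` is generated by an irreducible
polynomial.
-/

set_option autoImplicit false

namespace Groth.Agent.Lib.helper11.AbsIrr

open MvPolynomial

variable {K L : Type*} [Field K] [Field L] [Algebra K L] {ι : Type*}

/-- evaluation at `(s, θ)` via `optionEquivLeft` -/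
theorem aeval_option_eq (s : ι → L) (θ : L) (G : MvPolynomial (Option ι) K) :
    aeval (fun o : Option ι => o.elim θ s) G =
      Polynomial.eval₂ ((aeval s : MvPolynomial ι K →ₐ[K] L) : MvPolynomial ι K →+* L) θ
        (optionEquivLeft K ι G) := by
  induction G using MvPolynomial.induction_on with
  | C a =>
    rw [optionEquivLeft_C, Polynomial.eval₂_C, aeval_C]
    simp
  | add p q hp hq => rw [map_add, map_add, Polynomial.eval₂_add, hp, hq]
  | mul_X p i hp =>
    rw [map_mul, map_mul, Polynomial.eval₂_mul, hp, aeval_X]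
    congr 1
    cases i with
    | none => rw [optionEquivLeft_X_none, Polynomial.eval₂_X]; rfl
    | some i =>
      rw [optionEquivLeft_X_some, Polynomial.eval₂_C]
      simp

theorem exists_irreducible_ker_aux (s : ι → L) (hs : AlgebraicIndependent K s) (θ : L)
    (hθ : ∃ q : Polynomial (MvPolynomial ι K), q ≠ 0 ∧
      Polynomial.eval₂ ((aeval s : MvPolynomial ι K →ₐ[K] L) : MvPolynomial ι K →+* L) θ q = 0) :
    ∃ F : MvPolynomial (Option ι) K, Irreducible F ∧
      ∀ G, aeval (fun o : Option ι => o.elim θ s) G = 0 ↔ F ∣ G := by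
  classical
  set R₀ := MvPolynomial ι K
  set j : R₀ →ₐ[K] L := aeval s with hj
  have hjinj : Function.Injective j := algebraicIndependent_iff_injective_aeval.mp hs
  letI : Algebra R₀ L := j.toRingHom.toAlgebra
  haveI : FaithfulSMul R₀ L := (faithfulSMul_iff_algebraMap_injective R₀ L).mpr hjinj
  let M' := FractionRing R₀
  letI : Algebra M' L := FractionRing.liftAlgebra R₀ L
  haveI : IsScalarTower R₀ M' L := FractionRing.isScalarTower_liftAlgebra R₀ L
  have hinjM : Function.Injective (algebraMap R₀ M') := IsFractionRing.injective R₀ M'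
  obtain ⟨q, hq0, hq⟩ := hθ
  -- `θ` is algebraic over `M'`
  have hev : ∀ G : Polynomial R₀, Polynomial.aeval θ (G.map (algebraMap R₀ M')) =
      Polynomial.eval₂ (j : R₀ →+* L) θ G := by
    intro G
    rw [Polynomial.aeval_def, Polynomial.eval₂_map, ← IsScalarTower.algebraMap_eq]
    rfl
  have halg : IsAlgebraic M' θ :=
    ⟨q.map (algebraMap R₀ M'), (Polynomial.map_ne_zero_iff hinjM).mpr hq0, by rw [hev, hq]⟩
  have hint : IsIntegral M' θ := halg.isIntegral
  set μ := minpoly M' θ with hμ
  have hμ0 : μ ≠ 0 := minpoly.ne_zero hint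
  -- integer normalisation of the minimal polynomial
  obtain ⟨b₀, hb₀⟩ := IsLocalization.integerNormalization_map_to_map (nonZeroDivisors R₀) μ
  set F₀ := IsLocalization.integerNormalization (nonZeroDivisors R₀) μ with hF₀
  have hb₀0 : (b₀ : R₀) ≠ 0 := nonZeroDivisors.ne_zero b₀.2
  have hF₀0 : F₀ ≠ 0 := by
    intro h0
    rw [h0, Polynomial.map_zero] at hb₀
    have : (b₀ : R₀) • μ = 0 := hb₀.symm
    rw [Algebra.smul_def, mul_eq_zero] at this
    rcases this with h | h
    · rw [Polynomial.algebraMap_apply, Polynomial.C_eq_zero,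
        map_eq_zero_iff _ hinjM] at h
      exact hb₀0 h
    · exact hμ0 h
  have hF₀θ : Polynomial.eval₂ (j : R₀ →+* L) θ F₀ = 0 := by
    rw [← hev, hb₀, ← algebraMap_smul M' (b₀ : R₀) μ, map_smul, minpoly.aeval, smul_zero]
  -- divisibility up to a nonzero scalar
  have hdiv : ∀ G : Polynomial R₀, Polynomial.eval₂ (j : R₀ →+* L) θ G = 0 →
      ∃ b : R₀, b ≠ 0 ∧ F₀ ∣ Polynomial.C b * G := by
    intro G hG
    have h1 : μ ∣ G.map (algebraMap R₀ M') := minpoly.dvd M' θ (by rw [hev, hG])
    obtain ⟨q', hq'⟩ := h1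
    obtain ⟨b, hb⟩ := IsLocalization.integerNormalization_map_to_map (nonZeroDivisors R₀) q'
    refine ⟨b * b₀, mul_ne_zero (nonZeroDivisors.ne_zero b.2) hb₀0,
      ⟨IsLocalization.integerNormalization (nonZeroDivisors R₀) q', ?_⟩⟩
    apply Polynomial.map_injective _ hinjM
    rw [Polynomial.map_mul, Polynomial.map_mul, hb, hb₀, Polynomial.map_C, hq']
    simp only [Algebra.smul_def, Polynomial.algebraMap_apply, map_mul]
    ring
  -- back to `MvPolynomial (Option ι) K`
  let e := optionEquivLeft K ι
  set a : Option ι → L := fun o => o.elim θ s with ha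
  have hF₀' : aeval a (e.symm F₀) = 0 := by
    rw [aeval_option_eq, AlgEquiv.apply_symm_apply, hF₀θ]
  have hF₀'0 : e.symm F₀ ≠ 0 := fun h => hF₀0 (by simpa using h)
  -- a prime factor vanishing at `a`
  obtain ⟨f, hfprime, hfprod⟩ := UniqueFactorizationMonoid.exists_prime_factors _ hF₀'0
  have hprod0 : aeval a f.prod = 0 := by
    obtain ⟨u, hu⟩ := hfprod
    have : aeval a (f.prod * (u : MvPolynomial (Option ι) K)) = 0 := by rw [hu, hF₀']
    rw [map_mul] at this
    rcases mul_eq_zero.mp this with h | h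
    · exact h
    · exact absurd h ((u.isUnit.map (aeval a)).ne_zero)
  have hex : ∃ F ∈ f, aeval a F = 0 := by
    rw [map_multiset_prod, Multiset.prod_eq_zero_iff, Multiset.mem_map] at hprod0
    exact hprod0
  obtain ⟨F, hFf, hFa⟩ := hex
  have hFprime : Prime F := hfprime F hFf
  have hFdvd : F ∣ e.symm F₀ := (Multiset.dvd_prod hFf).trans hfprod.dvd
  refine ⟨F, hFprime.irreducible, fun G => ⟨fun hG => ?_, fun ⟨H, hH⟩ => ?_⟩⟩
  · obtain ⟨b, hb0, H, hH⟩ := hdiv (e G) (by rw [← aeval_option_eq]; exact hG)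
    have h2 : e.symm F₀ ∣ e.symm (Polynomial.C b) * G := by
      refine ⟨e.symm H, ?_⟩
      have := congrArg e.symm hH
      rwa [map_mul, map_mul, AlgEquiv.symm_apply_apply] at this
    rcases hFprime.dvd_or_dvd (hFdvd.trans h2) with h | h
    · exfalso
      obtain ⟨c, hc⟩ := h
      have h3 : aeval a (e.symm (Polynomial.C b)) = 0 := by rw [hc, map_mul, hFa, zero_mul]
      rw [aeval_option_eq, AlgEquiv.apply_symm_apply, Polynomial.eval₂_C] at h3
      exact hb0 (hjinj (h3.trans (map_zero j).symm))
    · exact h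
  · rw [hH, map_mul, hFa, zero_mul]

end Groth.Agent.Lib.helper11.AbsIrr
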