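import Mathlib

/-!
# Perfect closure of a domain (helper11)
-/

set_option autoImplicit false

universe u

namespace Groth.Agent.Lib.helper11.AbsIrr

section

variable (A : Type u) [CommRing A] [IsDomain A] (p : ℕ) [Fact p.Prime] [CharP A p]

instance perfectClosure_isDomain : IsDomain (PerfectClosure A p) := by
  haveI : NoZeroDivisors (PerfectClosure A p) := by
    constructor
    intro x y
    refine PerfectClosure.induction_on x (fun ⟨m, a⟩ => ?_)
    refine PerfectClosure.induction_on y (fun ⟨n, b⟩ => ?_)
    intro hxy
    rw [PerfectClosure.mk_mul_mk, PerfectClosure.zero_def, PerfectClosure.eq_iff] at hxy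
    simp only [Function.iterate_zero, id, iterate_map_zero] at hxy
    rcases mul_eq_zero.mp hxy with h | h
    · left
      have h0 : a = 0 := (frobenius_inj A p).iterate n (h.trans (iterate_map_zero _ _).symm)
      rw [h0, PerfectClosure.mk_zero_right]
    · right
      have h0 : b = 0 := (frobenius_inj A p).iterate m (h.trans (iterate_map_zero _ _).symm)
      rw [h0, PerfectClosure.mk_zero_right]
  exact NoZeroDivisors.to_isDomain _

theorem isHomeomorph_comap_perfectClosure_of :
    IsHomeomorph (PrimeSpectrum.comap (PerfectClosure.of A p)) := by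
  apply PrimeSpectrum.isHomeomorph_comap
  · intro x
    refine PerfectClosure.induction_on x (fun ⟨n, a⟩ => ?_)
    refine ⟨p ^ n, pow_pos (Fact.out : p.Prime).pos n, a, ?_⟩
    rw [← iterate_frobenius, PerfectClosure.iterate_frobenius_mk]
  · intro a ha
    rw [RingHom.mem_ker, PerfectClosure.of_apply, PerfectClosure.zero_def,
      PerfectClosure.eq_iff] at ha
    simp only [Function.iterate_zero, id] at ha
    rw [ha]
    exact zero_mem _

end

theorem perfectField_fractionRing (A' : Type u) [CommRing A'] [IsDomain A'] (p : ℕ)
    [Fact p.Prime] [CharP A' p] [PerfectRing A' p] : PerfectField (FractionRing A') := by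
  haveI : CharP (FractionRing A') p :=
    charP_of_injective_algebraMap (IsFractionRing.injective A' (FractionRing A')) p
  haveI : PerfectRing (FractionRing A') p := by
    apply PerfectRing.ofSurjective
    intro x
    obtain ⟨a, b, hb, rfl⟩ := IsFractionRing.div_surjective (A := A') x
    obtain ⟨a', rfl⟩ := surjective_frobenius A' p a
    obtain ⟨b', rfl⟩ := surjective_frobenius A' p b
    refine ⟨algebraMap _ _ a' / algebraMap _ _ b', ?_⟩
    simp [frobenius_def, div_pow]
  exact PerfectRing.toPerfectField (FractionRing A') p

end Groth.Agent.Lib.helper11.AbsIrr
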