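import Groth.Agent.Lib.helper11.AbsIrr.PolyOf

/-!
# Absolutely irreducible polynomials stay irreducible over a dense open (helper11)

Stacks 37.27.3 (Tag 0557-ish): if `A` is a domain with fraction field `K`, `P ∈ A[x₁,…,xₙ]` is
irreducible over an algebraically closed extension of `K`, then there is `a ≠ 0` in `A` such that
for every ring map `φ : A → Ω` to a field with `φ a ≠ 0` the polynomial `φ(P)` is irreducible.
-/

set_option autoImplicit false

namespace Groth.Agent.Lib.helper11.AbsIrr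

open MvPolynomial

variable {σ : Type*} [Finite σ] {A : Type*} [CommRing A]

/-- the unknown coefficients of a factorisation of type `(e₁, e₂)` -/
abbrev Tau (σ : Type*) (e₁ e₂ : ℕ) := Dg σ e₁ ⊕ Dg σ e₂

variable (A) in
/-- the universal polynomial of degree `≤ e₁` -/
noncomputable def U1 (e₁ e₂ : ℕ) : MvPolynomial σ (MvPolynomial (Tau σ e₁ e₂) A) :=
  polyOf e₁ (fun m => X (Sum.inl m))

variable (A) in
/-- the universal polynomial of degree `≤ e₂` -/
noncomputable def U2 (e₁ e₂ : ℕ) : MvPolynomial σ (MvPolynomial (Tau σ e₁ e₂) A) :=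
  polyOf e₂ (fun m => X (Sum.inr m))

/-- `U₁ U₂ - P` -/
noncomputable def GG (P : MvPolynomial σ A) (e₁ e₂ : ℕ) :
    MvPolynomial σ (MvPolynomial (Tau σ e₁ e₂) A) :=
  U1 A e₁ e₂ * U2 A e₁ e₂ - map C P

/-- the ideal of the scheme of factorisations of `P` of type `(e₁, e₂)` -/
noncomputable def factIdeal (P : MvPolynomial σ A) (e₁ e₂ : ℕ) :
    Ideal (MvPolynomial (Tau σ e₁ e₂) A) :=
  Ideal.span (Set.range fun m => coeff m (GG P e₁ e₂))

theorem map_GG {Ω : Type*} [CommRing Ω] (φ : A →+* Ω) (P : MvPolynomial σ A) (e₁ e₂ : ℕ)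
    (x : Tau σ e₁ e₂ → Ω) :
    map (eval₂Hom φ x) (GG P e₁ e₂) =
      polyOf e₁ (fun m => x (Sum.inl m)) * polyOf e₂ (fun m => x (Sum.inr m)) - map φ P := by
  have h1 : map (eval₂Hom φ x) (U1 A e₁ e₂) = polyOf e₁ (fun m => x (Sum.inl m)) := by
    rw [U1, map_polyOf]
    congr 1
    funext m
    simp
  have h2 : map (eval₂Hom φ x) (U2 A e₁ e₂) = polyOf e₂ (fun m => x (Sum.inr m)) := by
    rw [U2, map_polyOf]
    congr 1
    funext m
    simp
  have h3 : map (eval₂Hom φ x) (map C P) = map φ P := by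
    have hc : (eval₂Hom φ x).comp C = φ := by
      refine RingHom.ext fun a => ?_
      simp
    rw [map_map, hc]
  rw [GG, map_sub, map_mul, h1, h2, h3]

theorem eval_factIdeal_iff {Ω : Type*} [CommRing Ω] (φ : A →+* Ω) (P : MvPolynomial σ A)
    (e₁ e₂ : ℕ) (x : Tau σ e₁ e₂ → Ω) :
    (∀ r ∈ factIdeal P e₁ e₂, eval₂Hom φ x r = 0) ↔
      polyOf e₁ (fun m => x (Sum.inl m)) * polyOf e₂ (fun m => x (Sum.inr m)) = map φ P := by
  rw [← sub_eq_zero, ← map_GG]
  constructor
  · intro h
    ext m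
    rw [coeff_map, coeff_zero]
    exact h _ (Ideal.subset_span ⟨m, rfl⟩)
  · intro h r hr
    have hle : factIdeal P e₁ e₂ ≤ RingHom.ker (eval₂Hom φ x) := by
      rw [factIdeal, Ideal.span_le]
      rintro _ ⟨m, rfl⟩
      rw [SetLike.mem_coe, RingHom.mem_ker, ← coeff_map, h, coeff_zero]
    exact hle hr

theorem totalDegree_map_le {R S : Type*} [CommSemiring R] [CommSemiring S] (f : R →+* S)
    (p : MvPolynomial σ R) : (map f p).totalDegree ≤ p.totalDegree :=
  Finset.sup_mono (support_map_subset f p)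

theorem totalDegree_map_of_injective {R S : Type*} [CommSemiring R] [CommSemiring S] (f : R →+* S)
    (hf : Function.Injective f) (p : MvPolynomial σ R) :
    (map f p).totalDegree = p.totalDegree := by
  unfold totalDegree
  rw [support_map_of_injective p hf]

section main

variable [IsDomain A] (K : Type*) [Field K] [Algebra A K] [IsFractionRing A K]
  (Kb : Type*) [Field Kb] [IsAlgClosed Kb] [Algebra K Kb] [Algebra A Kb] [IsScalarTower A K Kb]

attribute [local instance] MvPolynomial.algebraMvPolynomial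

include K in
theorem exists_C_mem_factIdeal (P : MvPolynomial σ A)
    (hP : Irreducible (map (algebraMap A Kb) P)) {e₁ e₂ : ℕ} (h1 : 1 ≤ e₁) (h2 : 1 ≤ e₂)
    (h : e₁ + e₂ ≤ P.totalDegree) :
    ∃ a : A, a ≠ 0 ∧ C a ∈ factIdeal P e₁ e₂ := by
  classical
  by_contra hcon
  push Not at hcon
  have hinjK : Function.Injective (algebraMap A K) := IsFractionRing.injective A K
  have hinj : Function.Injective (algebraMap A Kb) := by
    rw [IsScalarTower.algebraMap_eq A K Kb]
    exact (algebraMap K Kb).injective.comp hinjK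
  haveI hloc : IsLocalization ((nonZeroDivisors A).map (C (σ := Tau σ e₁ e₂)))
      (MvPolynomial (Tau σ e₁ e₂) K) := MvPolynomial.isLocalization (nonZeroDivisors A) K
  have hdisj : Disjoint (((nonZeroDivisors A).map (C (σ := Tau σ e₁ e₂)) : Submonoid _) :
      Set (MvPolynomial (Tau σ e₁ e₂) A))
      ((factIdeal P e₁ e₂ : Ideal _) : Set (MvPolynomial (Tau σ e₁ e₂) A)) := by
    rw [Set.disjoint_left]
    rintro _ ⟨a, ha, rfl⟩ hmem
    exact hcon a (nonZeroDivisors.ne_zero ha) hmem
  have hne := (IsLocalization.map_algebraMap_ne_top_iff_disjoint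
    ((nonZeroDivisors A).map (C (σ := Tau σ e₁ e₂))) (MvPolynomial (Tau σ e₁ e₂) K)
    (factIdeal P e₁ e₂)).mpr hdisj
  obtain ⟨𝔪, h𝔪, hle⟩ := Ideal.exists_le_maximal _ hne
  obtain ⟨x, hx⟩ := MvPolynomial.eq_vanishingIdeal_singleton_of_isMaximal Kb h𝔪
  have hkill : ∀ r ∈ factIdeal P e₁ e₂, eval₂Hom (algebraMap A Kb) x r = 0 := by
    intro r hr
    have h1 : algebraMap (MvPolynomial (Tau σ e₁ e₂) A) (MvPolynomial (Tau σ e₁ e₂) K) r ∈ 𝔪 :=
      hle (Ideal.mem_map_of_mem _ hr)
    rw [hx, MvPolynomial.mem_vanishingIdeal_singleton_iff, MvPolynomial.algebraMap_def] at h1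
    rw [← h1, aeval_def, eval₂_map, ← IsScalarTower.algebraMap_eq]
    rfl
  rw [eval_factIdeal_iff] at hkill
  set Q₁ := polyOf e₁ (fun m => x (Sum.inl m)) with hQ₁
  set Q₂ := polyOf e₂ (fun m => x (Sum.inr m)) with hQ₂
  have hd : (map (algebraMap A Kb) P).totalDegree = P.totalDegree :=
    totalDegree_map_of_injective _ hinj P
  have hQ₁d : Q₁.totalDegree ≤ e₁ := totalDegree_polyOf_le _ _
  have hQ₂d : Q₂.totalDegree ≤ e₂ := totalDegree_polyOf_le _ _
  have hmul := totalDegree_mul Q₁ Q₂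
  rw [hkill, hd] at hmul
  rcases hP.isUnit_or_isUnit hkill.symm with hu | hu
  · have h0 : Q₁.totalDegree = 0 := ((isUnit_iff_totalDegree_of_isReduced).mp hu).2
    omega
  · have h0 : Q₂.totalDegree = 0 := ((isUnit_iff_totalDegree_of_isReduced).mp hu).2
    omega

include K in
/-- **Specialisation of absolutely irreducible polynomials.** -/
theorem exists_ne_zero_forall_irreducible_map (P : MvPolynomial σ A)
    (hP : Irreducible (map (algebraMap A Kb) P)) :
    ∃ a : A, a ≠ 0 ∧ ∀ (Ω : Type*) [Field Ω] (φ : A →+* Ω), φ a ≠ 0 →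
      Irreducible (map φ P) := by
  classical
  have hinjK : Function.Injective (algebraMap A K) := IsFractionRing.injective A K
  have hinj : Function.Injective (algebraMap A Kb) := by
    rw [IsScalarTower.algebraMap_eq A K Kb]
    exact (algebraMap K Kb).injective.comp hinjK
  set d := P.totalDegree with hd
  have hdKb : (map (algebraMap A Kb) P).totalDegree = d := totalDegree_map_of_injective _ hinj P
  have hd1 : 1 ≤ d := by
    by_contra hlt
    have h0 : (map (algebraMap A Kb) P).totalDegree = 0 := by omega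
    rw [totalDegree_eq_zero_iff_eq_C] at h0
    have hne : map (algebraMap A Kb) P ≠ 0 := hP.ne_zero
    apply hP.not_isUnit
    rw [h0]
    refine IsUnit.map C (isUnit_iff_ne_zero.mpr ?_)
    intro hc
    rw [h0, hc, C_0] at hne
    exact hne rfl
  have hP0 : P ≠ 0 := by
    intro h0
    rw [h0, totalDegree_zero] at hd
    omega
  -- a monomial of top degree
  obtain ⟨m₀, hm₀, hm₀d⟩ : ∃ m₀ ∈ P.support, (m₀.sum fun _ e => e) = d := by
    have hne : P.support.Nonempty := by
      rw [Finset.nonempty_iff_ne_empty, Ne, support_eq_empty]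
      exact hP0
    obtain ⟨m₀, hm₀, hsup⟩ := Finset.exists_mem_eq_sup P.support hne (fun s => s.sum fun _ e => e)
    exact ⟨m₀, hm₀, hsup.symm⟩
  -- the finitely many types
  let T : Finset (ℕ × ℕ) := (Finset.range (d + 1) ×ˢ Finset.range (d + 1)).filter
    (fun p => 1 ≤ p.1 ∧ 1 ≤ p.2 ∧ p.1 + p.2 ≤ d)
  have hT : ∀ p ∈ T, ∃ a : A, a ≠ 0 ∧ C a ∈ factIdeal P p.1 p.2 := by
    intro p hp
    rw [Finset.mem_filter] at hp
    exact exists_C_mem_factIdeal K Kb P hP hp.2.1 hp.2.2.1 hp.2.2.2
  choose! aT haT0 haT using hT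
  refine ⟨coeff m₀ P * ∏ p ∈ T, aT p, ?_, ?_⟩
  · refine mul_ne_zero (mem_support_iff.mp hm₀) ?_
    rw [Finset.prod_ne_zero_iff]
    exact fun p hp => haT0 p hp
  · intro Ω _ φ hφ
    rw [map_mul, map_prod] at hφ
    have hφ0 : φ (coeff m₀ P) ≠ 0 := left_ne_zero_of_mul hφ
    have hφT : ∀ p ∈ T, φ (aT p) ≠ 0 := by
      intro p hp
      exact (Finset.prod_ne_zero_iff.mp (right_ne_zero_of_mul hφ)) p hp
    have hcoeff : coeff m₀ (map φ P) ≠ 0 := by rwa [coeff_map]
    have hdΩ : (map φ P).totalDegree = d := by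
      refine le_antisymm (totalDegree_map_le φ P) ?_
      rw [← hm₀d]
      exact le_totalDegree (mem_support_iff.mpr hcoeff)
    have hne0 : map φ P ≠ 0 := fun h0 => hcoeff (by rw [h0, coeff_zero])
    refine ⟨?_, ?_⟩
    · intro hu
      have := ((isUnit_iff_totalDegree_of_isReduced).mp hu).2
      omega
    · intro Q₁ Q₂ hQ
      by_contra hcon
      push Not at hcon
      obtain ⟨hu1, hu2⟩ := hcon
      have hQ₁0 : Q₁ ≠ 0 := fun h0 => hne0 (by rw [hQ, h0, zero_mul])
      have hQ₂0 : Q₂ ≠ 0 := fun h0 => hne0 (by rw [hQ, h0, mul_zero])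
      have hdeg := totalDegree_mul_of_isDomain hQ₁0 hQ₂0
      rw [← hQ, hdΩ] at hdeg
      have hpos : ∀ Q : MvPolynomial σ Ω, Q ≠ 0 → ¬ IsUnit Q → 1 ≤ Q.totalDegree := by
        intro Q hQ0 hQu
        by_contra hlt
        have h0 : Q.totalDegree = 0 := by omega
        rw [totalDegree_eq_zero_iff_eq_C] at h0
        apply hQu
        rw [h0]
        refine IsUnit.map C (isUnit_iff_ne_zero.mpr ?_)
        intro hc
        rw [h0, hc, C_0] at hQ0
        exact hQ0 rfl
      have h1 := hpos Q₁ hQ₁0 hu1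
      have h2 := hpos Q₂ hQ₂0 hu2
      have hmemT : (Q₁.totalDegree, Q₂.totalDegree) ∈ T := by
        rw [Finset.mem_filter, Finset.mem_product, Finset.mem_range, Finset.mem_range]
        refine ⟨⟨by omega, by omega⟩, h1, h2, by omega⟩
      have hmem := haT _ hmemT
      -- the point of the factorisation scheme given by `Q₁, Q₂`
      let x : Tau σ Q₁.totalDegree Q₂.totalDegree → Ω :=
        Sum.elim (fun m => coeff m.1 Q₁) (fun m => coeff m.1 Q₂)
      have hx : ∀ r ∈ factIdeal P Q₁.totalDegree Q₂.totalDegree, eval₂Hom φ x r = 0 := by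
        rw [eval_factIdeal_iff]
        change polyOf _ (fun m => coeff m.1 Q₁) * polyOf _ (fun m => coeff m.1 Q₂) = _
        rw [polyOf_coeff le_rfl, polyOf_coeff le_rfl, hQ]
      have := hx _ hmem
      rw [eval₂Hom_C] at this
      exact hφT _ hmemT this

end main

end Groth.Agent.Lib.helper11.AbsIrr
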