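import Mathlib

/-!
# Polynomials of bounded total degree with prescribed coefficients (helper11)

`polyOf e c` is the multivariate polynomial whose coefficient at a monomial `m` of degree `≤ e`
is `c m`.  Used to parametrise factorisations of bounded degree.
-/

set_option autoImplicit false

namespace Groth.Agent.Lib.helper11.AbsIrr

open MvPolynomial

variable {σ : Type*}

/-- monomials of degree at most `e` -/
abbrev Dg (σ : Type*) (e : ℕ) := {m : σ →₀ ℕ // m.degree ≤ e}

instance instFiniteDg [Finite σ] (e : ℕ) : Finite (Dg σ e) :=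
  (Finsupp.finite_of_degree_le e).to_subtype

section
variable [Finite σ] {R S : Type*} [CommSemiring R] [CommSemiring S]

open Classical in
/-- the polynomial of total degree `≤ e` with prescribed coefficients -/
noncomputable def polyOf (e : ℕ) (c : Dg σ e → R) : MvPolynomial σ R :=
  ∑ᶠ m : Dg σ e, monomial m.1 (c m)

open Classical in
theorem coeff_polyOf (e : ℕ) (c : Dg σ e → R) (m : σ →₀ ℕ) :
    coeff m (polyOf e c) = if h : m.degree ≤ e then c ⟨m, h⟩ else 0 := by
  haveI : Fintype (Dg σ e) := Fintype.ofFinite _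
  rw [polyOf, finsum_eq_sum_of_fintype, coeff_sum]
  simp only [coeff_monomial]
  split_ifs with h
  · rw [Finset.sum_eq_single ⟨m, h⟩]
    · simp
    · intro b _ hb
      rw [if_neg]
      intro hbm
      exact hb (Subtype.ext hbm)
    · intro hm
      exact absurd (Finset.mem_univ _) hm
  · apply Finset.sum_eq_zero
    intro b _
    rw [if_neg]
    intro hbm
    exact h (hbm ▸ b.2)

theorem sum_eq_degree (m : σ →₀ ℕ) : (m.sum fun _ e => e) = m.degree := rfl

theorem totalDegree_polyOf_le (e : ℕ) (c : Dg σ e → R) : (polyOf e c).totalDegree ≤ e := by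
  refine Finset.sup_le fun m hm => ?_
  rw [mem_support_iff, coeff_polyOf] at hm
  rw [sum_eq_degree]
  by_contra h
  rw [dif_neg h] at hm
  exact hm rfl

theorem degree_le_totalDegree {Q : MvPolynomial σ R} {m : σ →₀ ℕ} (hm : coeff m Q ≠ 0) :
    m.degree ≤ Q.totalDegree := by
  rw [← sum_eq_degree]
  exact le_totalDegree (mem_support_iff.mpr hm)

theorem polyOf_coeff {Q : MvPolynomial σ R} {e : ℕ} (hQ : Q.totalDegree ≤ e) :
    polyOf e (fun m : Dg σ e => coeff m.1 Q) = Q := by
  ext m
  rw [coeff_polyOf]
  split_ifs with h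
  · rfl
  · symm
    by_contra hne
    exact h ((degree_le_totalDegree hne).trans hQ)

theorem map_polyOf (ψ : R →+* S) (e : ℕ) (c : Dg σ e → R) :
    map ψ (polyOf e c) = polyOf e (fun m => ψ (c m)) := by
  ext m
  rw [coeff_map, coeff_polyOf, coeff_polyOf]
  split_ifs with h
  · rfl
  · exact map_zero ψ

end

end Groth.Agent.Lib.helper11.AbsIrr
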