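import Groth.Agent.Lib.helper11.AbsIrr.RingModelB

/-!
# Geometric irreducibility of fibres near the generic point: domain case, ring level (helper11)
-/

set_option autoImplicit false

namespace Groth.Agent.Lib.helper11.AbsIrr

open MvPolynomial TensorProduct

universe u

theorem exists_isDomain_fibres (A B₁ K L Kb : Type u) [CommRing A] [IsDomain A] [CommRing B₁]
    [IsDomain B₁] [Field K] [Field L] [Field Kb] [Algebra A B₁] [Algebra A K] [Algebra A L]
    [Algebra B₁ L] [Algebra K L] [Algebra K Kb] [Algebra A Kb]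
    [IsScalarTower A K L] [IsScalarTower A B₁ L] [IsScalarTower A K Kb]
    [IsFractionRing A K] [IsFractionRing B₁ L] [Algebra.FiniteType A B₁]
    [PerfectField K] [IsAlgClosed Kb] [IsDomain (Kb ⊗[K] L)] :
    ∃ (a : A) (g : B₁), a ≠ 0 ∧ g ≠ 0 ∧ ∀ (Ω : Type u) [Field Ω] [Algebra A Ω],
      algebraMap A Ω a ≠ 0 → Nontrivial (Ω ⊗[A] Localization.Away g) →
        IsDomain (Ω ⊗[A] Localization.Away g) := by
  classical
  haveI : Algebra.EssFiniteType B₁ L := Algebra.EssFiniteType.of_isLocalization L (nonZeroDivisors B₁)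
  haveI : Algebra.EssFiniteType A L := Algebra.EssFiniteType.comp A B₁ L
  haveI : Algebra.EssFiniteType K L := Algebra.EssFiniteType.of_comp A K L
  obtain ⟨ι, hfin, a, Ft, hgen, hirr, hker⟩ := exists_fieldModel K L
  haveI := hfin
  have hFabs : Irreducible (MvPolynomial.map (algebraMap K Kb) Ft) :=
    irreducible_map_of_isDomain_tensor a Ft hirr.ne_zero hker
  obtain ⟨a₀, F, ha₀, hF⟩ := exists_map_eq_C_mul (A := A) Ft
  have hunitK : IsUnit (C (algebraMap A K a₀) : MvPolynomial ι K) := by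
    refine IsUnit.map C (isUnit_iff_ne_zero.mpr ?_)
    intro h
    exact ha₀ (IsFractionRing.injective A K (h.trans (map_zero _).symm))
  have hker' : ∀ G : MvPolynomial ι K, aeval a G = 0 ↔
      MvPolynomial.map (algebraMap A K) F ∣ G := by
    intro G
    rw [hker, hF, hunitK.mul_left_dvd]
  have hFabs' : Irreducible (MvPolynomial.map (algebraMap A Kb) F) := by
    have h1 : MvPolynomial.map (algebraMap A Kb) F =
        MvPolynomial.map (algebraMap K Kb) (MvPolynomial.map (algebraMap A K) F) := by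
      rw [MvPolynomial.map_map, ← IsScalarTower.algebraMap_eq]
    rw [h1, hF, map_mul]
    exact (irreducible_isUnit_mul (hunitK.map _)).mpr hFabs
  obtain ⟨aH, haH, HH⟩ := exists_ne_zero_forall_irreducible_map K Kb F hFabs'
  obtain ⟨g, D, hg, ⟨e⟩⟩ := exists_algEquiv_hypLoc (B₁ := B₁) (K := K) a hgen F hker'
  refine ⟨aH, g, haH, hg, ?_⟩
  intro Ω _ _ hΩ hnt
  have hirrΩ : Irreducible (MvPolynomial.map (algebraMap A Ω) F) := HH Ω (algebraMap A Ω) hΩ
  let E : Ω ⊗[A] Localization.Away g ≃ₐ[Ω] Ω ⊗[A] HypLoc F D :=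
    Algebra.TensorProduct.congr AlgEquiv.refl e
  haveI := hnt
  haveI : Nontrivial (Ω ⊗[A] HypLoc F D) := E.injective.nontrivial
  haveI := isDomain_tensor_hypLoc F D Ω hirrΩ
  exact Function.Injective.isDomain E.toRingHom E.injective

end Groth.Agent.Lib.helper11.AbsIrr
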