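import Mathlib

/-!
# General lemmas on reducedness / irreducibility of spectra (helper11)
-/

set_option autoImplicit false

namespace Groth.Agent.Lib.helper11.AbsIrr

open TensorProduct

theorem isDomain_of_isReduced_of_irreducibleSpace (R : Type*) [CommRing R] [IsReduced R]
    [h : IrreducibleSpace (PrimeSpectrum R)] : IsDomain R := by
  rw [PrimeSpectrum.irreducibleSpace_iff_isPrime_nilradical, nilradical_eq_zero R,
    Ideal.zero_eq_bot] at h
  haveI := h
  exact IsDomain.of_bot_isPrime R

theorem irreducibleSpace_iff_of_surjective_of_ker_le {R S : Type*} [CommRing R] [CommRing S]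
    (f : R →+* S) (hf : Function.Surjective f) (hker : RingHom.ker f ≤ nilradical R) :
    IrreducibleSpace (PrimeSpectrum S) ↔ IrreducibleSpace (PrimeSpectrum R) := by
  have hh : IsHomeomorph (PrimeSpectrum.comap f) :=
    PrimeSpectrum.isHomeomorph_comap f
      (fun x => ⟨1, Nat.one_pos, by rw [pow_one]; exact hf x⟩) hker
  exact (hh.homeomorph).irreducibleSpace_iff

theorem nontrivial_of_surjective_of_ker_le {R S : Type*} [CommRing R] [CommRing S]
    (f : R →+* S) (hker : RingHom.ker f ≤ nilradical R) [Nontrivial R] : Nontrivial S := by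
  by_contra h
  rw [not_nontrivial_iff_subsingleton] at h
  have h1 : (1 : R) ∈ RingHom.ker f := by
    rw [RingHom.mem_ker]
    exact Subsingleton.elim _ _
  have h2 := hker h1
  rw [mem_nilradical] at h2
  obtain ⟨n, hn⟩ := h2
  rw [one_pow] at hn
  exact one_ne_zero hn

/-- the kernel of a base change of a surjection whose kernel becomes nil is nil -/
theorem ker_map_le_nilradical {A P Q Ω : Type*} [CommRing A] [CommRing P] [CommRing Q]
    [CommRing Ω] [Algebra A P] [Algebra A Q] [Algebra A Ω] (q : P →ₐ[A] Q)
    (hq : Function.Surjective q)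
    (hnil : ∀ x ∈ RingHom.ker q, IsNilpotent ((1 : Ω) ⊗ₜ[A] x)) :
    RingHom.ker (Algebra.TensorProduct.map (AlgHom.id A Ω) q) ≤ nilradical (Ω ⊗[A] P) := by
  rw [Algebra.TensorProduct.lTensor_ker q hq, Ideal.map_le_iff_le_comap]
  intro x hx
  rw [Ideal.mem_comap, mem_nilradical]
  exact hnil x hx

end Groth.Agent.Lib.helper11.AbsIrr
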