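import Groth.Agent.Lib.helper11.AbsIrr.RingMain
import Groth.Agent.Lib.helper11.AbsIrr.RingRed
import Groth.Agent.Lib.Helper22.GeomRed

/-!
# Geometric irreducibility of fibres near the generic point: general ring-level statement (helper11)
-/

set_option autoImplicit false

namespace Groth.Agent.Lib.helper11.AbsIrr

open TensorProduct

universe u

section torsion

variable {A B Kb : Type*} [CommRing A] [CommRing B] [Algebra A B] [CommRing Kb] [Algebra A Kb]

/-- If `1 ⊗ b = 0` in `Kb ⊗[A] B` with `Kb` flat and nontrivial, then `b` is torsion. -/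
theorem exists_smul_eq_zero_of_tmul_eq_zero [Module.Flat A Kb] [Nontrivial Kb] (b : B)
    (hb : (1 : Kb) ⊗ₜ[A] b = 0) : ∃ s : A, s ≠ 0 ∧ s • b = 0 := by
  by_contra h
  push Not at h
  let φ : A →ₗ[A] B := LinearMap.toSpanSingleton A B b
  have hinj : Function.Injective φ := by
    rw [injective_iff_map_eq_zero]
    intro s hs
    by_contra hs0
    exact h s hs0 (by simpa [φ] using hs)
  have h2 := Module.Flat.lTensor_preserves_injective_linearMap (M := Kb) φ hinj
  have h3 : (φ.lTensor Kb) ((1 : Kb) ⊗ₜ[A] (1 : A)) = (φ.lTensor Kb) 0 := by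
    rw [LinearMap.lTensor_tmul, map_zero]
    simpa [φ] using hb
  have h4 := h2 h3
  have h5 := congrArg (TensorProduct.rid A Kb) h4
  simp at h5

end torsion

/-- R2a: the domain case with the geometric hypothesis on `Spec (Kb ⊗[A] B₁)`. -/
theorem exists_isDomain_fibres' (A B₁ K Kb : Type u) [CommRing A] [IsDomain A] [CommRing B₁]
    [IsDomain B₁] [Field K] [Field Kb] [Algebra A B₁] [Algebra A K] [Algebra K Kb] [Algebra A Kb]
    [IsScalarTower A K Kb] [IsFractionRing A K] [Algebra.FiniteType A B₁]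
    [PerfectField K] [IsAlgClosed Kb] (hinj : Function.Injective (algebraMap A B₁))
    [IrreducibleSpace (PrimeSpectrum (Kb ⊗[A] B₁))] :
    ∃ (a : A) (g : B₁), a ≠ 0 ∧ g ≠ 0 ∧ ∀ (Ω : Type u) [Field Ω] [Algebra A Ω],
      algebraMap A Ω a ≠ 0 → Nontrivial (Ω ⊗[A] Localization.Away g) →
        IsDomain (Ω ⊗[A] Localization.Away g) := by
  let L := FractionRing B₁
  have hinjL : Function.Injective (algebraMap A L) := by
    rw [IsScalarTower.algebraMap_eq A B₁ L]
    exact (IsFractionRing.injective B₁ L).comp hinj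
  letI : Algebra K L := (IsFractionRing.lift hinjL).toAlgebra
  haveI : IsScalarTower A K L :=
    IsScalarTower.of_algebraMap_eq (fun x => (IsFractionRing.lift_algebraMap hinjL x).symm)
  haveI : Module.Flat A K := IsLocalization.flat K (nonZeroDivisors A)
  haveI : Module.Flat A Kb := Module.Flat.trans A K Kb
  haveI : IsReduced (Kb ⊗[K] L) :=
    Groth.Agent.Lib.Helper22.GeomRed.isReduced_tensor_of_perfectField
  let e : Kb ⊗[K] L ≃ₐ[K] Kb ⊗[A] L := IsLocalization.algebraTensorEquiv (nonZeroDivisors A) K Kb L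
  haveI : IsReduced (Kb ⊗[A] L) := isReduced_of_injective e.symm.toRingHom e.symm.injective
  -- `Kb ⊗[A] B₁ → Kb ⊗[A] L` is injective by flatness
  let ψ : Kb ⊗[A] B₁ →ₐ[Kb] Kb ⊗[A] L :=
    Algebra.TensorProduct.map (AlgHom.id Kb Kb) (IsScalarTower.toAlgHom A B₁ L)
  have hψ : Function.Injective ψ := by
    have h1 := Module.Flat.lTensor_preserves_injective_linearMap (M := Kb)
      (IsScalarTower.toAlgHom A B₁ L).toLinearMap (IsFractionRing.injective B₁ L)
    intro x y hxy
    apply h1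
    exact hxy
  haveI : IsReduced (Kb ⊗[A] B₁) := isReduced_of_injective ψ.toRingHom hψ
  haveI : IsDomain (Kb ⊗[A] B₁) := isDomain_of_isReduced_of_irreducibleSpace _
  haveI : Nontrivial (Kb ⊗[K] L) := inferInstance
  haveI : Nontrivial (Kb ⊗[A] L) := e.symm.surjective.nontrivial
  haveI : IsDomain (Kb ⊗[A] L) :=
    isDomain_tensor_of_isLocalization B₁ L Kb (nonZeroDivisors B₁)
  haveI : IsDomain (Kb ⊗[K] L) := Function.Injective.isDomain e.toRingHom e.injective
  exact exists_isDomain_fibres A B₁ K L Kb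

/-- killing torsion by inverting the bound -/
theorem tmul_eq_zero_of_pow_smul_eq_zero {A M Ω : Type*} [CommRing A] [AddCommGroup M] [Module A M]
    [Field Ω] [Algebra A Ω] (a : A) (ha : algebraMap A Ω a ≠ 0) (m : ℕ) (c : M)
    (hc : a ^ m • c = 0) : (1 : Ω) ⊗ₜ[A] c = 0 := by
  have hu : algebraMap A Ω (a ^ m) ≠ 0 := by
    rw [map_pow]; exact pow_ne_zero _ ha
  have h1 : (algebraMap A Ω (a ^ m)) ⊗ₜ[A] c = 0 := by
    rw [Algebra.algebraMap_eq_smul_one, TensorProduct.smul_tmul, hc, TensorProduct.tmul_zero]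
  have h2 : (1 : Ω) ⊗ₜ[A] c = (algebraMap A Ω (a ^ m))⁻¹ • ((algebraMap A Ω (a ^ m)) ⊗ₜ[A] c) := by
    rw [TensorProduct.smul_tmul', smul_eq_mul, inv_mul_cancel₀ hu]
  rw [h2, h1, smul_zero]

/-- R2: geometric irreducibility of the fibres of a localisation, general finite type algebra. -/
theorem exists_irreducibleSpace_fibres (A B K Kb : Type u) [CommRing A] [IsDomain A] [CommRing B]
    [Field K] [Field Kb] [Algebra A B] [Algebra A K] [Algebra K Kb] [Algebra A Kb]
    [IsScalarTower A K Kb] [IsFractionRing A K] [Algebra.FiniteType A B]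
    [PerfectField K] [IsAlgClosed Kb] [hirr : IrreducibleSpace (PrimeSpectrum (Kb ⊗[A] B))] :
    ∃ (a : A) (g : B) (q : Ideal B), a ≠ 0 ∧ q.IsPrime ∧ g ∉ q ∧
      q.comap (algebraMap A B) = ⊥ ∧ ∀ (Ω : Type u) [Field Ω] [Algebra A Ω],
      algebraMap A Ω a ≠ 0 → Nontrivial (Ω ⊗[A] Localization.Away g) →
        IrreducibleSpace (PrimeSpectrum (Ω ⊗[A] Localization.Away g)) := by
  classical
  haveI : Module.Flat A K := IsLocalization.flat K (nonZeroDivisors A)
  haveI : Module.Flat A Kb := Module.Flat.trans A K Kb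
  haveI : Nontrivial (Kb ⊗[A] B) := by
    obtain ⟨p⟩ := hirr.toNonempty
    exact p.nontrivial
  have hKbinj : Function.Injective (algebraMap A Kb) := by
    rw [IsScalarTower.algebraMap_eq A K Kb]
    exact (algebraMap K Kb).injective.comp (IsFractionRing.injective A K)
  let N : Ideal B := Ideal.comap (Algebra.TensorProduct.includeRight : B →ₐ[A] Kb ⊗[A] B)
    (nilradical (Kb ⊗[A] B))
  have hmemN : ∀ b, b ∈ N ↔ IsNilpotent ((1 : Kb) ⊗ₜ[A] b) := by
    intro b
    simp only [N, Ideal.mem_comap, mem_nilradical, Algebra.TensorProduct.includeRight_apply]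
  haveI hNprime : N.IsPrime := by
    haveI : (nilradical (Kb ⊗[A] B)).IsPrime :=
      (PrimeSpectrum.irreducibleSpace_iff_isPrime_nilradical).mp hirr
    exact Ideal.comap_isPrime _ _
  have hNA : ∀ x : A, algebraMap A B x ∈ N → x = 0 := by
    intro x hx
    by_contra hx0
    rw [hmemN] at hx
    have h1 : (1 : Kb) ⊗ₜ[A] (algebraMap A B x) = algebraMap Kb (Kb ⊗[A] B) (algebraMap A Kb x) := by
      rw [Algebra.TensorProduct.algebraMap_apply, Algebra.algebraMap_self, RingHom.id_apply,
        Algebra.algebraMap_eq_smul_one x, Algebra.algebraMap_eq_smul_one x,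
        TensorProduct.smul_tmul]
    rw [h1] at hx
    have hunit : IsUnit (algebraMap Kb (Kb ⊗[A] B) (algebraMap A Kb x)) :=
      IsUnit.map _ (isUnit_iff_ne_zero.mpr (fun h => hx0 (hKbinj (h.trans (map_zero _).symm))))
    exact hunit.not_isNilpotent hx -- nontrivial ring: units are not nilpotent
  -- the domain quotient
  let B₁ := B ⧸ N
  have hsurj : Function.Surjective (Ideal.Quotient.mkₐ A N) := Ideal.Quotient.mkₐ_surjective A N
  haveI : Algebra.FiniteType A B₁ := Algebra.FiniteType.of_surjective (Ideal.Quotient.mkₐ A N) hsurj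
  have hinj : Function.Injective (algebraMap A B₁) := by
    rw [injective_iff_map_eq_zero]
    intro x hx
    apply hNA x
    rw [← Ideal.Quotient.eq_zero_iff_mem]
    exact hx
  have hkerq : ∀ b, Ideal.Quotient.mkₐ A N b = 0 ↔ b ∈ N := fun b => Ideal.Quotient.eq_zero_iff_mem
  -- irreducibility of `Kb ⊗[A] B₁`
  have hker1 := ker_map_le_nilradical (Ω := Kb) (Ideal.Quotient.mkₐ A N) hsurj (by
    intro x hx
    rw [RingHom.mem_ker] at hx
    exact (hmemN x).mp ((hkerq x).mp hx))
  have hsurj1 : Function.Surjective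
      (Algebra.TensorProduct.map (AlgHom.id A Kb) (Ideal.Quotient.mkₐ A N)) :=
    Algebra.TensorProduct.map_surjective _ _ Function.surjective_id hsurj
  haveI : IrreducibleSpace (PrimeSpectrum (Kb ⊗[A] B₁)) :=
    (irreducibleSpace_iff_of_surjective_of_ker_le
      (Algebra.TensorProduct.map (AlgHom.id A Kb) (Ideal.Quotient.mkₐ A N)).toRingHom hsurj1
      hker1).mpr hirr
  obtain ⟨a₁, g₁, ha₁, hg₁, H₁⟩ := exists_isDomain_fibres' A B₁ K Kb hinj
  obtain ⟨g, rfl⟩ := hsurj g₁
  -- torsion bound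
  obtain ⟨a₂, ha₂, Hgf⟩ := GenFreeTools.GenFree.exists_spec
    (GenFreeTools.genFree_of_finiteType (R := A) B B)
  have htors := (Hgf a₂ dvd_rfl ha₂).2
  refine ⟨a₁ * a₂, g, N, mul_ne_zero ha₁ ha₂, hNprime, ?_, ?_, ?_⟩
  · intro hgN
    exact hg₁ ((hkerq g).mpr hgN)
  · rw [eq_bot_iff]
    intro x hx
    rw [Ideal.mem_comap] at hx
    rw [Ideal.mem_bot]
    exact hNA x hx
  intro Ω _ _ hΩ hnt
  rw [map_mul] at hΩ
  have hΩ₁ : algebraMap A Ω a₁ ≠ 0 := left_ne_zero_of_mul hΩ
  have hΩ₂ : algebraMap A Ω a₂ ≠ 0 := right_ne_zero_of_mul hΩ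
  let qmap : Localization.Away g →ₐ[A] Localization.Away (Ideal.Quotient.mkₐ A N g) :=
    Localization.awayMapₐ (Ideal.Quotient.mkₐ A N) g
  have hqsurj : Function.Surjective qmap := by
    have := (Localization.awayMap_surjective_iff (f := (Ideal.Quotient.mkₐ A N).toRingHom)
      (r := g)).mpr (fun a => by
        obtain ⟨b, rfl⟩ := hsurj a
        exact ⟨b, 0, by simp⟩)
    exact this
  have hqker : ∀ x ∈ RingHom.ker qmap, IsNilpotent ((1 : Ω) ⊗ₜ[A] x) := by
    intro x hx
    rw [RingHom.mem_ker] at hx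
    obtain ⟨⟨b, s⟩, hbs⟩ := IsLocalization.surj (Submonoid.powers g) x
    simp only at hbs
    have h1 : qmap (algebraMap B (Localization.Away g) b) = 0 := by
      rw [← hbs, map_mul, hx, zero_mul]
    have h2 : qmap (algebraMap B (Localization.Away g) b) =
        algebraMap B₁ (Localization.Away (Ideal.Quotient.mkₐ A N g)) (Ideal.Quotient.mkₐ A N b) := by
      simp only [qmap, Localization.awayMapₐ, IsLocalization.Away.mapₐ_apply,
        IsLocalization.Away.map, IsLocalization.map_eq]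
      rfl
    rw [h2] at h1
    have h3 : Ideal.Quotient.mkₐ A N b = 0 := by
      have hle : Submonoid.powers (Ideal.Quotient.mkₐ A N g) ≤ nonZeroDivisors B₁ :=
        powers_le_nonZeroDivisors_of_noZeroDivisors hg₁
      exact (IsLocalization.injective _ hle) (h1.trans (map_zero _).symm)
    have h4 : b ∈ N := (hkerq b).mp h3
    rw [hmemN] at h4
    obtain ⟨k, hk⟩ := h4
    rw [Algebra.TensorProduct.tmul_pow, one_pow] at hk
    obtain ⟨s₀, hs₀, hs₀b⟩ := exists_smul_eq_zero_of_tmul_eq_zero (b ^ k) hk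
    obtain ⟨m, hm⟩ := htors (b ^ k) s₀ hs₀ hs₀b
    have h5 : (1 : Ω) ⊗ₜ[A] (algebraMap B (Localization.Away g) (b ^ k)) = 0 := by
      apply tmul_eq_zero_of_pow_smul_eq_zero a₂ hΩ₂ m
      rw [← IsScalarTower.toAlgHom_apply A B (Localization.Away g), ← map_smul, hm, map_zero]
    have hunit : IsUnit (algebraMap B (Localization.Away g) s) := IsLocalization.map_units _ s
    refine ⟨k, ?_⟩
    rw [Algebra.TensorProduct.tmul_pow, one_pow]
    have h6 : x ^ k * (algebraMap B (Localization.Away g) s) ^ k =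
        algebraMap B (Localization.Away g) (b ^ k) := by
      rw [← mul_pow, hbs, map_pow]
    have h7 : x ^ k = algebraMap B (Localization.Away g) (b ^ k) * ↑((hunit.unit)⁻¹ ^ k) := by
      rw [← h6, mul_assoc, Units.val_pow_eq_pow_val, ← mul_pow, IsUnit.mul_val_inv, one_pow,
        mul_one]
    rw [h7, ← mul_one (1 : Ω), ← Algebra.TensorProduct.tmul_mul_tmul, h5, zero_mul]
  have hker2 := ker_map_le_nilradical (Ω := Ω) qmap hqsurj hqker
  have hsurj2 : Function.Surjective (Algebra.TensorProduct.map (AlgHom.id A Ω) qmap) :=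
    Algebra.TensorProduct.map_surjective _ _ Function.surjective_id hqsurj
  haveI := hnt
  haveI hnt₁ : Nontrivial (Ω ⊗[A] Localization.Away (Ideal.Quotient.mkₐ A N g)) :=
    nontrivial_of_surjective_of_ker_le
      (Algebra.TensorProduct.map (AlgHom.id A Ω) qmap).toRingHom hker2
  haveI := H₁ Ω hΩ₁ hnt₁
  exact (irreducibleSpace_iff_of_surjective_of_ker_le
      (Algebra.TensorProduct.map (AlgHom.id A Ω) qmap).toRingHom hsurj2 hker2).mp inferInstance

end Groth.Agent.Lib.helper11.AbsIrr
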