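import Mathlib

/-!
# Auxiliary lemmas for spreading out the hypersurface model (helper11)
-/

set_option autoImplicit false

namespace Groth.Agent.Lib.helper11.AbsIrr

open MvPolynomial

attribute [local instance] MvPolynomial.algebraMvPolynomial

variable {A K L : Type*} [CommRing A] [IsDomain A] [Field K] [Field L] [Algebra A K] [Algebra A L]
  [Algebra K L] [IsScalarTower A K L] [IsFractionRing A K] {ι : Type*}

/-- clearing denominators of a polynomial over the fraction field -/
theorem exists_map_eq_C_mul (r : MvPolynomial ι K) :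
    ∃ (a' : A) (r' : MvPolynomial ι A), a' ≠ 0 ∧
      MvPolynomial.map (algebraMap A K) r' = C (algebraMap A K a') * r := by
  haveI : IsLocalization ((nonZeroDivisors A).map (C (σ := ι))) (MvPolynomial ι K) :=
    MvPolynomial.isLocalization (nonZeroDivisors A) K
  obtain ⟨⟨r', ⟨_, a', ha', rfl⟩⟩, h⟩ :=
    IsLocalization.surj ((nonZeroDivisors A).map (C (σ := ι))) r
  refine ⟨a', r', nonZeroDivisors.ne_zero ha', ?_⟩
  simp only [MvPolynomial.algebraMap_def, map_C] at h
  rw [← h, mul_comm]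

theorem aeval_map_eq (a : ι → L) (N : MvPolynomial ι A) :
    aeval a (MvPolynomial.map (algebraMap A K) N) = aeval a N :=
  MvPolynomial.aeval_map_algebraMap K a N

/-- every element of `L = K(a)` is a quotient of polynomials in `a` with coefficients in `A` -/
theorem exists_frac_rep (a : ι → L) (hgen : IntermediateField.adjoin K (Set.range a) = ⊤)
    (ℓ : L) : ∃ N D : MvPolynomial ι A, aeval a D ≠ 0 ∧ ℓ * aeval a D = aeval a N := by
  have hmem : ℓ ∈ IntermediateField.adjoin K (Set.range a) := by rw [hgen]; trivial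
  obtain ⟨r, s, hrs⟩ := (IntermediateField.mem_adjoin_range_iff K a ℓ).mp hmem
  by_cases hs : aeval a s = 0
  · refine ⟨0, 1, by simp, ?_⟩
    rw [hrs, hs, div_zero, zero_mul, map_zero]
  · obtain ⟨a₁, r', ha₁, hr'⟩ := exists_map_eq_C_mul (A := A) r
    obtain ⟨a₂, s', ha₂, hs'⟩ := exists_map_eq_C_mul (A := A) s
    have hinj : Function.Injective (algebraMap A L) := by
      rw [IsScalarTower.algebraMap_eq A K L]
      exact (algebraMap K L).injective.comp (IsFractionRing.injective A K)
    have h1 : aeval a r' = algebraMap A L a₁ * aeval a r := by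
      rw [← aeval_map_eq (K := K), hr', map_mul, aeval_C, ← IsScalarTower.algebraMap_apply]
    have h2 : aeval a s' = algebraMap A L a₂ * aeval a s := by
      rw [← aeval_map_eq (K := K), hs', map_mul, aeval_C, ← IsScalarTower.algebraMap_apply]
    have ha₁' : algebraMap A L a₁ ≠ 0 := fun h => ha₁ (hinj (h.trans (map_zero _).symm))
    have ha₂' : algebraMap A L a₂ ≠ 0 := fun h => ha₂ (hinj (h.trans (map_zero _).symm))
    refine ⟨C a₂ * r', C a₁ * s', ?_, ?_⟩
    · rw [map_mul, aeval_C, h2]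
      exact mul_ne_zero ha₁' (mul_ne_zero ha₂' hs)
    · rw [map_mul, map_mul, aeval_C, aeval_C, h1, h2, hrs]
      field_simp

/-- common denominators -/
theorem exists_common_frac_rep (a : ι → L)
    (hgen : IntermediateField.adjoin K (Set.range a) = ⊤) (E : Finset L) :
    ∃ D : MvPolynomial ι A, aeval a D ≠ 0 ∧ ∀ ℓ ∈ E, ∃ N : MvPolynomial ι A,
      ℓ * aeval a D = aeval a N := by
  classical
  induction E using Finset.induction_on with
  | empty => exact ⟨1, by simp, by simp⟩
  | insert ℓ E _ ih =>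
    obtain ⟨D, hD, hE⟩ := ih
    obtain ⟨N₀, D₀, hD₀, h₀⟩ := exists_frac_rep (A := A) (K := K) a hgen ℓ
    refine ⟨D₀ * D, by rw [map_mul]; exact mul_ne_zero hD₀ hD, ?_⟩
    intro ℓ' hℓ'
    rcases Finset.mem_insert.mp hℓ' with rfl | h
    · exact ⟨N₀ * D, by rw [map_mul, map_mul, ← mul_assoc, h₀]⟩
    · obtain ⟨N, hN⟩ := hE ℓ' h
      exact ⟨D₀ * N, by rw [map_mul, map_mul, ← hN]; ring⟩

/-- polynomials in elements with common denominator `c` have denominator a power of `c` -/
theorem exists_pow_mul_eq {B₁ : Type*} [CommRing B₁] [Algebra A B₁] [Algebra B₁ L]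
    [IsScalarTower A B₁ L] (a : ι → L) (c : B₁) (b : ι → B₁)
    (hb : ∀ i, a i * algebraMap B₁ L c = algebraMap B₁ L (b i)) (N : MvPolynomial ι A) :
    ∃ (k : ℕ) (b' : B₁), aeval a N * algebraMap B₁ L c ^ k = algebraMap B₁ L b' := by
  induction N using MvPolynomial.induction_on with
  | C r =>
    refine ⟨0, algebraMap A B₁ r, ?_⟩
    rw [pow_zero, mul_one, aeval_C, ← IsScalarTower.algebraMap_apply]
  | add p q hp hq =>
    obtain ⟨k₁, b₁, h₁⟩ := hp
    obtain ⟨k₂, b₂, h₂⟩ := hq
    refine ⟨k₁ + k₂, b₁ * c ^ k₂ + b₂ * c ^ k₁, ?_⟩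
    rw [map_add, map_add, map_mul, map_mul, map_pow, map_pow, ← h₁, ← h₂, pow_add]
    ring
  | mul_X p i hp =>
    obtain ⟨k, b₁, h₁⟩ := hp
    refine ⟨k + 1, b₁ * b i, ?_⟩
    rw [map_mul, map_mul, aeval_X, ← h₁, ← hb i, pow_succ]
    ring

/-- elements in the kernel of evaluation are torsion modulo `F` -/
theorem exists_dvd_C_mul (a : ι → L) (F : MvPolynomial ι A)
    (hker : ∀ G : MvPolynomial ι K, aeval a G = 0 ↔ MvPolynomial.map (algebraMap A K) F ∣ G)
    (N : MvPolynomial ι A) (hN : aeval a N = 0) : ∃ a' : A, a' ≠ 0 ∧ F ∣ C a' * N := by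
  have h1 : MvPolynomial.map (algebraMap A K) F ∣ MvPolynomial.map (algebraMap A K) N := by
    rw [← hker, aeval_map_eq, hN]
  obtain ⟨H, hH⟩ := h1
  obtain ⟨a', H', ha', hH'⟩ := exists_map_eq_C_mul (A := A) H
  refine ⟨a', ha', H', ?_⟩
  apply MvPolynomial.map_injective _ (IsFractionRing.injective A K)
  rw [map_mul, map_mul, map_C, hH, hH']
  ring

end Groth.Agent.Lib.helper11.AbsIrr
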