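import Groth.Agent.Lib.helper11.AbsIrr.RingModelA
import Groth.Agent.Lib.helper11.AbsIrr.FieldModel
import Groth.Agent.Lib.helper11.AbsIrr.AbsIrrTensor
import Groth.Agent.Lib.helper11.AbsIrr.FibDomain
import Groth.Agent.Lib.helper11.AbsIrr.PolyFactor
import Groth.Agent.Lib.helper11.GenFreeTools

/-!
# Spreading out the hypersurface model over a domain (helper11)
-/

set_option autoImplicit false

namespace Groth.Agent.Lib.helper11.AbsIrr

open MvPolynomial TensorProduct
open Groth.Agent.Lib.helper11.GenFree Groth.Agent.Lib.helper11.GenFreeTools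

universe u

section data

variable {A B₁ K L : Type u} [CommRing A] [IsDomain A] [CommRing B₁] [IsDomain B₁]
  [Field K] [Field L] [Algebra A B₁] [Algebra A K] [Algebra A L] [Algebra B₁ L] [Algebra K L]
  [IsScalarTower A K L] [IsScalarTower A B₁ L] [IsFractionRing A K] [IsFractionRing B₁ L]
  {ι : Type u} [Finite ι]

/-- The comparison isomorphism between a localisation of `B₁` and a localised hypersurface. -/
theorem exists_algEquiv_hypLoc [Algebra.FiniteType A B₁] (a : ι → L)
    (hgen : IntermediateField.adjoin K (Set.range a) = ⊤) (F : MvPolynomial ι A)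
    (hker : ∀ G : MvPolynomial ι K, aeval a G = 0 ↔ MvPolynomial.map (algebraMap A K) F ∣ G) :
    ∃ (g : B₁) (D : MvPolynomial ι A), g ≠ 0 ∧
      Nonempty (Localization.Away g ≃ₐ[A] HypLoc F D) := by
  classical
  have hinjB : Function.Injective (algebraMap B₁ L) := IsFractionRing.injective B₁ L
  have hinjA : Function.Injective (algebraMap A L) := by
    rw [IsScalarTower.algebraMap_eq A K L]
    exact (algebraMap K L).injective.comp (IsFractionRing.injective A K)
  -- generic freeness of the hypersurface algebra: uniform torsion bound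
  obtain ⟨a₁, ha₁, Hgf⟩ := GenFree.exists_spec
    (genFree_of_finiteType (R := A) (HypAlg F) (HypAlg F))
  have htors := (Hgf a₁ dvd_rfl ha₁).2
  -- common denominator of the `a i`
  obtain ⟨⟨c, hc⟩, hcb⟩ := IsLocalization.exist_integer_multiples_of_finite
    (nonZeroDivisors B₁) a
  have hc0 : c ≠ 0 := nonZeroDivisors.ne_zero hc
  choose b hb using hcb
  have hb' : ∀ i, a i * algebraMap B₁ L c = algebraMap B₁ L (b i) := by
    intro i
    rw [hb i, Algebra.smul_def, mul_comm]
  have hcL : algebraMap B₁ L c ≠ 0 := fun h => hc0 (hinjB (h.trans (map_zero _).symm))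
  -- generators of `B₁`
  obtain ⟨β, hβ⟩ := (Algebra.FiniteType.out : (⊤ : Subalgebra A B₁).FG)
  -- common denominator for the generators and `c⁻¹`
  obtain ⟨D, hD, hE⟩ := exists_common_frac_rep (A := A) (K := K) a hgen
    (insert (algebraMap B₁ L c)⁻¹ (β.image (algebraMap B₁ L)))
  set δ₀ := aeval a D with hδ₀
  obtain ⟨Nc, hNc⟩ := hE _ (Finset.mem_insert_self _ _)
  have hEβ : ∀ x ∈ β, ∃ N : MvPolynomial ι A, algebraMap B₁ L x * δ₀ = aeval a N := by
    intro x hx
    exact hE _ (Finset.mem_insert_of_mem (Finset.mem_image_of_mem _ hx))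
  -- `δ₀` lies in `B₁[1/c]`
  obtain ⟨k, bδ, hbδ⟩ := exists_pow_mul_eq a c b hb' D
  rw [← hδ₀] at hbδ
  have hbδ0 : bδ ≠ 0 := by
    rintro rfl
    rw [map_zero] at hbδ
    exact mul_ne_zero hD (pow_ne_zero _ hcL) hbδ
  have hbδL : algebraMap B₁ L bδ ≠ 0 := fun h => hbδ0 (hinjB (h.trans (map_zero _).symm))
  have ha₁L : algebraMap A L a₁ ≠ 0 := fun h => ha₁ (hinjA (h.trans (map_zero _).symm))
  -- the elements
  set g : B₁ := algebraMap A B₁ a₁ * c * bδ with hg
  have hgL : algebraMap B₁ L g = algebraMap A L a₁ * algebraMap B₁ L c * algebraMap B₁ L bδ := by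
    rw [hg, map_mul, map_mul, ← IsScalarTower.algebraMap_apply]
  have hgL0 : algebraMap B₁ L g ≠ 0 := by
    rw [hgL]; exact mul_ne_zero (mul_ne_zero ha₁L hcL) hbδL
  have hg0 : g ≠ 0 := fun h => hgL0 (by rw [h, map_zero])
  set D' : MvPolynomial ι A := C a₁ * D with hD'
  set δ := aeval a D' with hδ
  have hδeq : δ = algebraMap A L a₁ * δ₀ := by rw [hδ, hD', map_mul, aeval_C]
  have hδ0 : δ ≠ 0 := by rw [hδeq]; exact mul_ne_zero ha₁L hD
  refine ⟨g, D', hg0, ?_⟩
  -- the map `ρ₁`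
  let f₁ : B₁ →ₐ[A] L := IsScalarTower.toAlgHom A B₁ L
  have hf₁ : ∀ y : Submonoid.powers g, IsUnit (f₁ y) := by
    rintro ⟨_, n, rfl⟩
    exact (isUnit_iff_ne_zero.mpr hgL0).pow n |>.map (MonoidHom.id L) |> fun h => by
      simpa [f₁] using h
  let ρ₁ : Localization.Away g →ₐ[A] L := IsLocalization.liftAlgHom (M := Submonoid.powers g) hf₁
  have hρ₁alg : ∀ x : B₁, ρ₁ (algebraMap B₁ (Localization.Away g) x) = algebraMap B₁ L x := by
    intro x
    exact IsLocalization.lift_eq _ x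
  have hρ₁inj : Function.Injective ρ₁ := by
    change Function.Injective (IsLocalization.lift (M := Submonoid.powers g) hf₁)
    rw [IsLocalization.lift_injective_iff]
    intro x y
    have hle : Submonoid.powers g ≤ nonZeroDivisors B₁ :=
      powers_le_nonZeroDivisors_of_noZeroDivisors hg0
    constructor
    · intro h
      rw [IsLocalization.injective (Localization.Away g) hle h]
    · intro h
      rw [hinjB h]
  -- the map `ρ₂`
  let α₀ : MvPolynomial ι A →ₐ[A] L := aeval a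
  have haF : aeval a F = 0 := by
    rw [← aeval_map_eq (K := K), hker]
  have hα₀F : ∀ x ∈ Ideal.span {F}, α₀ x = 0 := by
    intro x hx
    obtain ⟨y, rfl⟩ := Ideal.mem_span_singleton'.mp hx
    change aeval a (y * F) = 0
    rw [map_mul, haF, mul_zero]
  let αb : HypAlg F →ₐ[A] L := Ideal.Quotient.liftₐ (Ideal.span {F}) α₀ hα₀F
  have hαb : ∀ N : MvPolynomial ι A, αb (Ideal.Quotient.mk (Ideal.span {F}) N) = aeval a N :=
    fun N => rfl
  set Db : HypAlg F := Ideal.Quotient.mk (Ideal.span {F}) D' with hDb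
  have hαbD : αb Db = δ := hαb D'
  have hf₂ : ∀ y : Submonoid.powers Db, IsUnit (αb y) := by
    rintro ⟨_, n, rfl⟩
    change IsUnit (αb (Db ^ n))
    rw [map_pow, hαbD]
    exact (isUnit_iff_ne_zero.mpr hδ0).pow n
  let ρ₂ : HypLoc F D' →ₐ[A] L := IsLocalization.liftAlgHom (M := Submonoid.powers Db) hf₂
  have hρ₂alg : ∀ x : HypAlg F, ρ₂ (algebraMap (HypAlg F) (HypLoc F D') x) = αb x := by
    intro x
    exact IsLocalization.lift_eq _ x
  have hρ₂inj : Function.Injective ρ₂ := by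
    change Function.Injective (IsLocalization.lift (M := Submonoid.powers Db) hf₂)
    rw [IsLocalization.lift_injective_iff]
    intro x y
    constructor
    · intro h
      have := congrArg ρ₂ h
      rwa [hρ₂alg, hρ₂alg] at this
    · intro h
      rw [← sub_eq_zero, ← map_sub]
      have hz : αb (x - y) = 0 := by
        rw [map_sub]
        exact sub_eq_zero.mpr h
      obtain ⟨N, hN⟩ := Ideal.Quotient.mk_surjective (x - y)
      rw [← hN] at hz ⊢
      rw [hαb] at hz
      obtain ⟨a', ha', hdvd⟩ := exists_dvd_C_mul (K := K) a F hker N hz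
      have hsmul : ∀ (r : A) (P : MvPolynomial ι A),
          r • (Ideal.Quotient.mk (Ideal.span {F}) P) =
            Ideal.Quotient.mk (Ideal.span {F}) (C r * P) := by
        intro r P
        rw [C_mul']
        rfl
      have htor : a' • (Ideal.Quotient.mk (Ideal.span {F}) N) = 0 := by
        rw [hsmul, Ideal.Quotient.eq_zero_iff_mem, Ideal.mem_span_singleton]
        exact hdvd
      obtain ⟨m, hm⟩ := htors _ a' ha' htor
      rw [IsLocalization.map_eq_zero_iff (Submonoid.powers Db)]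
      refine ⟨⟨Db ^ m, m, rfl⟩, ?_⟩
      change Db ^ m * Ideal.Quotient.mk (Ideal.span {F}) N = 0
      have h1 : Db ^ m * Ideal.Quotient.mk (Ideal.span {F}) N =
          Ideal.Quotient.mk (Ideal.span {F}) (D ^ m) *
            (a₁ ^ m • Ideal.Quotient.mk (Ideal.span {F}) N) := by
        rw [hDb, hD', ← map_pow, ← map_mul, hsmul, ← map_mul]
        congr 1
        rw [mul_pow, ← C_pow]
        ring
      rw [h1, hm, mul_zero]
  -- notation
  set cL := algebraMap B₁ L c with hcLdef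
  set gL := algebraMap B₁ L g with hgLdef
  set bL := algebraMap B₁ L bδ with hbLdef
  set aL := algebraMap A L a₁ with haLdef
  -- field identities
  have e1 : cL⁻¹ = (aL * bL) * gL⁻¹ := by rw [hgL]; field_simp
  have e2 : δ⁻¹ = cL ^ (k + 1) * gL⁻¹ := by
    rw [hgL, ← hbδ, hδeq]; field_simp; ring
  have e3 : δ₀⁻¹ = aL * δ⁻¹ := by rw [hδeq]; field_simp
  have e4 : aL⁻¹ = δ₀ * δ⁻¹ := by rw [hδeq]; field_simp
  have e5 : cL⁻¹ = aeval a Nc * δ₀⁻¹ := by rw [← hNc]; field_simp
  have e6 : bL⁻¹ = δ₀⁻¹ * cL⁻¹ ^ k := by rw [← hbδ, mul_inv, inv_pow]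
  have e7 : gL⁻¹ = aL⁻¹ * cL⁻¹ * bL⁻¹ := by rw [hgL]; field_simp
  -- membership facts
  have h1B : ∀ x : B₁, algebraMap B₁ L x ∈ ρ₁.range := fun x => ⟨_, hρ₁alg x⟩
  have h1A : ∀ r : A, algebraMap A L r ∈ ρ₁.range := fun r => Subalgebra.algebraMap_mem _ r
  have h1g : gL⁻¹ ∈ ρ₁.range := by
    refine ⟨IsLocalization.Away.invSelf g, ?_⟩
    have h := IsLocalization.Away.mul_invSelf (S := Localization.Away g) g
    have h' := congrArg ρ₁ h
    rw [map_mul, hρ₁alg, map_one] at h'
    exact (eq_inv_of_mul_eq_one_right h')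
  have h2N : ∀ N : MvPolynomial ι A, aeval a N ∈ ρ₂.range := fun N =>
    ⟨algebraMap (HypAlg F) (HypLoc F D') (Ideal.Quotient.mk (Ideal.span {F}) N),
      (hρ₂alg _).trans (hαb N)⟩
  have h2A : ∀ r : A, algebraMap A L r ∈ ρ₂.range := fun r => Subalgebra.algebraMap_mem _ r
  have h2δ : δ⁻¹ ∈ ρ₂.range := by
    refine ⟨IsLocalization.Away.invSelf Db, ?_⟩
    have h := IsLocalization.Away.mul_invSelf (S := HypLoc F D') Db
    have h' := congrArg ρ₂ h
    rw [map_mul, hρ₂alg, map_one, hαbD] at h'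
    exact (eq_inv_of_mul_eq_one_right h')
  -- `range ρ₂ ≤ range ρ₁`
  have h1c : cL⁻¹ ∈ ρ₁.range := by
    rw [e1]
    exact mul_mem (mul_mem (h1A _) (h1B _)) h1g
  have h1a : ∀ i, a i ∈ ρ₁.range := by
    intro i
    have : a i = algebraMap B₁ L (b i) * cL⁻¹ := by
      rw [← hb' i]; field_simp
    rw [this]
    exact mul_mem (h1B _) h1c
  have h1N : ∀ N : MvPolynomial ι A, aeval a N ∈ ρ₁.range := by
    intro N
    have : aeval a N ∈ Algebra.adjoin A (Set.range a) := by
      rw [Algebra.adjoin_range_eq_range_aeval]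
      exact ⟨N, rfl⟩
    exact (Algebra.adjoin_le (by rintro _ ⟨i, rfl⟩; exact h1a i)) this
  have h1δ : δ⁻¹ ∈ ρ₁.range := by
    rw [e2]
    exact mul_mem (pow_mem (h1B _) _) h1g
  have hle21 : ρ₂.range ≤ ρ₁.range := by
    rintro _ ⟨t, rfl⟩
    obtain ⟨x, ⟨_, n, rfl⟩, rfl⟩ := IsLocalization.exists_mk'_eq (Submonoid.powers Db) t
    obtain ⟨N, rfl⟩ := Ideal.Quotient.mk_surjective x
    have hspec := IsLocalization.mk'_spec (HypLoc F D') (Ideal.Quotient.mk (Ideal.span {F}) N)
      (⟨Db ^ n, n, rfl⟩ : Submonoid.powers Db)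
    have h' := congrArg ρ₂ hspec
    rw [map_mul, hρ₂alg, hρ₂alg, map_pow, hαbD, hαb] at h'
    have : ρ₂ (IsLocalization.mk' (HypLoc F D') (Ideal.Quotient.mk (Ideal.span {F}) N)
        (⟨Db ^ n, n, rfl⟩ : Submonoid.powers Db)) = aeval a N * δ⁻¹ ^ n := by
      rw [← h', mul_assoc, ← mul_pow, mul_inv_cancel₀ hδ0, one_pow, mul_one]
    change ρ₂ _ ∈ ρ₁.range
    rw [this]
    exact mul_mem (h1N N) (pow_mem h1δ n)
  -- `range ρ₁ ≤ range ρ₂`
  have h2δ₀ : δ₀⁻¹ ∈ ρ₂.range := by
    rw [e3]; exact mul_mem (h2A _) h2δ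
  have h2c : cL⁻¹ ∈ ρ₂.range := by
    rw [e5]; exact mul_mem (h2N _) h2δ₀
  have h2g : gL⁻¹ ∈ ρ₂.range := by
    rw [e7, e4, e6]
    exact mul_mem (mul_mem (mul_mem (h2N D) h2δ) h2c) (mul_mem h2δ₀ (pow_mem h2c k))
  have h2B : ∀ x : B₁, algebraMap B₁ L x ∈ ρ₂.range := by
    intro x
    have hx : x ∈ Algebra.adjoin A (β : Set B₁) := by rw [hβ]; trivial
    induction hx using Algebra.adjoin_induction with
    | mem y hy =>
      obtain ⟨N, hN⟩ := hEβ y hy
      have : algebraMap B₁ L y = aeval a N * δ₀⁻¹ := by rw [← hN]; field_simp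
      rw [this]
      exact mul_mem (h2N N) h2δ₀
    | algebraMap r =>
      rw [← IsScalarTower.algebraMap_apply]
      exact h2A r
    | add y z _ _ hy hz =>
      have := add_mem hy hz
      rwa [← map_add] at this
    | mul y z _ _ hy hz =>
      have := mul_mem hy hz
      rwa [← map_mul] at this
  have hle12 : ρ₁.range ≤ ρ₂.range := by
    rintro _ ⟨t, rfl⟩
    obtain ⟨x, ⟨_, n, rfl⟩, rfl⟩ := IsLocalization.exists_mk'_eq (Submonoid.powers g) t
    have hspec := IsLocalization.mk'_spec (Localization.Away g) x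
      (⟨g ^ n, n, rfl⟩ : Submonoid.powers g)
    have h' := congrArg ρ₁ hspec
    rw [map_mul, hρ₁alg, hρ₁alg, map_pow] at h'
    have : ρ₁ (IsLocalization.mk' (Localization.Away g) x
        (⟨g ^ n, n, rfl⟩ : Submonoid.powers g)) = algebraMap B₁ L x * gL⁻¹ ^ n := by
      rw [← h', mul_assoc, ← mul_pow, mul_inv_cancel₀ hgL0, one_pow, mul_one]
    change ρ₁ _ ∈ ρ₂.range
    rw [this]
    exact mul_mem (h2B x) (pow_mem h2g n)
  have hrange : ρ₁.range = ρ₂.range := le_antisymm hle12 hle21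
  exact ⟨(AlgEquiv.ofInjective ρ₁ hρ₁inj).trans
    ((Subalgebra.equivOfEq _ _ hrange).trans (AlgEquiv.ofInjective ρ₂ hρ₂inj).symm)⟩

end data

end Groth.Agent.Lib.helper11.AbsIrr
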