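import Mathlib

/-!
# Geometric irreducibility of single fibres: scheme-level basics (helper11)
-/

set_option autoImplicit false

universe u

open AlgebraicGeometry CategoryTheory Limits

namespace Groth.Agent.Lib.helper11.AbsIrr

variable {X Y : Scheme.{u}}

/-- `GI f y`: the fibre of `f` at `y` is geometrically irreducible, in unfolded form. -/
def GI (f : X ⟶ Y) (y : Y) : Prop :=
  ∀ (Ω : Type u) [Field Ω] (x : Spec (.of Ω) ⟶ Y), y ∈ Set.range x →
    IrreducibleSpace ↑(pullback f x)

theorem irreducibleSpace_of_iso {P Q : Scheme.{u}} (e : P ≅ Q) [IrreducibleSpace P] :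
    IrreducibleSpace Q :=
  (e.hom.homeomorph).irreducibleSpace_iff.mp inferInstance

theorem range_eq_singleton_of_field {Ω : Type u} [Field Ω] (x : Spec (.of Ω) ⟶ Y) (y : Y)
    (hy : y ∈ Set.range x) : ∀ pt, x pt = y := by
  intro pt
  obtain ⟨pt', rfl⟩ := hy
  rw [Subsingleton.elim pt pt']

theorem gi_of_geometricallyIrreducible (f : X ⟶ Y) (y : Y)
    (h : GeometricallyIrreducible (f.fiberToSpecResidueField y)) : GI f y := by
  intro Ω _ x hx
  obtain ⟨⟨y', φ⟩, rfl⟩ := (Scheme.SpecToEquivOfField _ _).symm.surjective x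
  simp only [Scheme.SpecToEquivOfField, Equiv.coe_fn_symm_mk] at hx ⊢
  obtain ⟨pt, hpt⟩ := hx
  rw [Scheme.Hom.comp_apply, Scheme.fromSpecResidueField_apply] at hpt
  subst hpt
  have h1 := h.geometrically_irreducibleSpace
  haveI : IrreducibleSpace ↑(pullback (pullback.snd f (Y.fromSpecResidueField y')) (Spec.map φ)) :=
    pullback_of_geometrically h1 Ω (Spec.map φ)
  exact irreducibleSpace_of_iso
    (pullbackLeftPullbackSndIso f (Y.fromSpecResidueField y') (Spec.map φ))

theorem irreducibleSpace_of_surjective {S T : Type*} [TopologicalSpace S] [TopologicalSpace T]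
    [IrreducibleSpace S] (p : S → T) (hp : Continuous p) (hs : Function.Surjective p) :
    IrreducibleSpace T := by
  have h1 := (IrreducibleSpace.isIrreducible_univ S).image p hp.continuousOn
  rw [Set.image_univ, hs.range_eq] at h1
  exact (irreducibleSpace_def T).mpr h1

theorem irreducibleSpace_of_dense_range {S T : Type*} [TopologicalSpace S] [TopologicalSpace T]
    [IrreducibleSpace S] (p : S → T) (hp : Continuous p) (hs : Dense (Set.range p)) :
    IrreducibleSpace T := by
  have h1 := (IrreducibleSpace.isIrreducible_univ S).image p hp.continuousOn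
  rw [Set.image_univ] at h1
  have h2 := h1.closure
  rw [hs.closure_eq] at h2
  exact (irreducibleSpace_def T).mpr h2

theorem irreducibleSpace_of_isOpenEmbedding {S T : Type*} [TopologicalSpace S]
    [TopologicalSpace T] [IrreducibleSpace T] [Nonempty S] (p : S → T)
    (hp : Topology.IsOpenEmbedding p) : IrreducibleSpace S := by
  have h1 : IsPreirreducible (p ⁻¹' Set.univ) :=
    (IrreducibleSpace.isIrreducible_univ T).isPreirreducible.preimage hp
  rw [Set.preimage_univ] at h1
  exact (irreducibleSpace_def S).mpr ⟨Set.univ_nonempty, h1⟩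

section pbIncl

variable (f : X ⟶ Y) {W S : Scheme.{u}} (j : W ⟶ X) (x : S ⟶ Y)

/-- comparison map `pullback (j ≫ f) x ⟶ pullback f x` -/
noncomputable def pbIncl : pullback (j ≫ f) x ⟶ pullback f x :=
  (pullbackRightPullbackFstIso f x j).inv ≫ pullback.snd j (pullback.fst f x)

@[reassoc]
theorem pbIncl_fst : pbIncl f j x ≫ pullback.fst f x = pullback.fst (j ≫ f) x ≫ j := by
  simp [pbIncl]

@[reassoc]
theorem pbIncl_snd : pbIncl f j x ≫ pullback.snd f x = pullback.snd (j ≫ f) x := by
  simp [pbIncl]

theorem range_pbIncl : Set.range (pbIncl f j x) = (pullback.fst f x) ⁻¹' (Set.range j) := by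
  have hs : Function.Surjective (pullbackRightPullbackFstIso f x j).inv :=
    (pullbackRightPullbackFstIso f x j).inv.homeomorph.surjective
  rw [pbIncl, Scheme.Hom.comp_base, TopCat.coe_comp, Set.range_comp, hs.range_eq,
    Set.image_univ, Scheme.Pullback.range_snd]

instance [IsOpenImmersion j] : IsOpenImmersion (pbIncl f j x) := by
  unfold pbIncl
  infer_instance

/-- Lemma T: if the part of `pullback f x` over an irreducible piece is dense, it is irreducible. -/
theorem irreducibleSpace_pullback_of_dense [IrreducibleSpace ↑(pullback (j ≫ f) x)]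
    (hd : Dense ((pullback.fst f x) ⁻¹' (Set.range j))) : IrreducibleSpace ↑(pullback f x) := by
  refine irreducibleSpace_of_dense_range (pbIncl f j x) (pbIncl f j x).continuous ?_
  rw [range_pbIncl]
  exact hd

/-- Lemma O: nonempty open pieces of irreducible pullbacks are irreducible. -/
theorem irreducibleSpace_pullback_of_isOpenImmersion [IsOpenImmersion j]
    [IrreducibleSpace ↑(pullback f x)] [Nonempty ↑(pullback (j ≫ f) x)] :
    IrreducibleSpace ↑(pullback (j ≫ f) x) :=
  irreducibleSpace_of_isOpenEmbedding (pbIncl f j x) (pbIncl f j x).isOpenEmbedding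

end pbIncl

section BC

variable (f : X ⟶ Y) {Y' : Scheme.{u}} (g : Y' ⟶ Y)

theorem gi_pullback_snd_of_gi (y' : Y') (h : GI f (g y')) : GI (pullback.snd f g) y' := by
  intro Ω _ x' hx'
  obtain ⟨pt, hpt⟩ := hx'
  haveI : IrreducibleSpace ↑(pullback f (x' ≫ g)) :=
    h Ω (x' ≫ g) ⟨pt, by rw [Scheme.Hom.comp_apply, hpt]⟩
  exact irreducibleSpace_of_iso (pullbackLeftPullbackSndIso f g x').symm

theorem gi_of_gi_pullback_snd (y' : Y') (h : GI (pullback.snd f g) y') : GI f (g y') := by
  intro Ω _ x hx
  obtain ⟨pt, hpt⟩ := hx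
  obtain ⟨z, hz1, hz2⟩ := Scheme.Pullback.exists_preimage_pullback (f := x) (g := g) pt y' hpt
  let Ω' : Type u := (pullback x g).residueField z
  let zmap : Spec (.of Ω') ⟶ pullback x g := (pullback x g).fromSpecResidueField z
  let x' : Spec (.of Ω') ⟶ Y' := zmap ≫ pullback.snd x g
  let w : Spec (.of Ω') ⟶ Spec (.of Ω) := zmap ≫ pullback.fst x g
  have e : x' ≫ g = w ≫ x := by
    simp only [x', w, Category.assoc, pullback.condition]
  have hx' : y' ∈ Set.range x' := by
    refine ⟨IsLocalRing.closedPoint Ω', ?_⟩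
    rw [Scheme.Hom.comp_apply]
    rw [show zmap (IsLocalRing.closedPoint Ω') = z from Scheme.fromSpecResidueField_apply _ _]
    exact hz2
  haveI h1 : IrreducibleSpace ↑(pullback (pullback.snd f g) x') := h Ω' x' hx'
  haveI h2 : IrreducibleSpace ↑(pullback f (x' ≫ g)) :=
    irreducibleSpace_of_iso (pullbackLeftPullbackSndIso f g x')
  haveI h3 : IrreducibleSpace ↑(pullback f (w ≫ x)) :=
    irreducibleSpace_of_iso (pullback.congrHom rfl e)
  haveI h4 : IrreducibleSpace ↑(pullback (pullback.snd f x) w) :=
    irreducibleSpace_of_iso (pullbackLeftPullbackSndIso f x w).symm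
  haveI : Surjective w := ⟨fun p => ⟨IsLocalRing.closedPoint Ω', Subsingleton.elim _ _⟩⟩
  exact irreducibleSpace_of_surjective (pullback.fst (pullback.snd f x) w)
    (pullback.fst (pullback.snd f x) w).continuous (pullback.fst (pullback.snd f x) w).surjective

end BC

section RL

theorem map_genericPoint_of_isOpenMap {Y' : Scheme.{u}} (g : Y' ⟶ Y) [IrreducibleSpace Y]
    [IrreducibleSpace Y'] (hg : IsOpenMap g) : g (genericPoint Y') = genericPoint Y := by
  have h1 : genericPoint Y ∈ Set.range g := by
    rw [(genericPoint_spec Y).mem_open_set_iff hg.isOpen_range]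
    exact ⟨g (genericPoint Y'), trivial, ⟨_, rfl⟩⟩
  obtain ⟨y₀, hy₀⟩ := h1
  have h2 : g (genericPoint Y') ⤳ genericPoint Y := by
    rw [← hy₀]
    exact ((genericPoint_spec Y').specializes trivial).map g.continuous
  have h3 : genericPoint Y ⤳ g (genericPoint Y') := (genericPoint_spec Y).specializes trivial
  exact (h2.antisymm h3).eq

/-- Reduction lemma: the spreading-out statement can be checked after base change along an open
map from an irreducible scheme. -/
theorem reduction (f : X ⟶ Y) {Y' : Scheme.{u}} (g : Y' ⟶ Y) [IrreducibleSpace Y]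
    [IrreducibleSpace Y'] (hg : IsOpenMap g)
    (H : GI (pullback.snd f g) (genericPoint Y') →
      ∃ V' : Y'.Opens, (V' : Set Y').Nonempty ∧ ∀ y' ∈ V', GI (pullback.snd f g) y')
    (h : GI f (genericPoint Y)) :
    ∃ V : Y.Opens, (V : Set Y).Nonempty ∧ ∀ y ∈ V, GI f y := by
  have hgen := map_genericPoint_of_isOpenMap g hg
  obtain ⟨V', hV', HV'⟩ := H (gi_pullback_snd_of_gi f g _ (by rw [hgen]; exact h))
  refine ⟨⟨g '' (V' : Set Y'), hg _ V'.isOpen⟩, hV'.image _, ?_⟩
  rintro y ⟨y', hy', rfl⟩
  exact gi_of_gi_pullback_snd f g y' (HV' y' hy')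

end RL

end Groth.Agent.Lib.helper11.AbsIrr
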