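import Groth.Agent.Lib.helper11.AbsIrr.SchBasic

/-!
# Density in geometric fibres (helper11)
-/

set_option autoImplicit false

universe u

open AlgebraicGeometry CategoryTheory Limits

namespace Groth.Agent.Lib.helper11.AbsIrr

variable {X Y : Scheme.{u}}

theorem isNowhereDense_of_isClosed_of_compl_nonempty {T : Type*} [TopologicalSpace T]
    [PreirreducibleSpace T] (s : Set T) (hs : IsClosed s) (hne : sᶜ.Nonempty) :
    IsNowhereDense s :=
  (isClosed_isNowhereDense_iff_compl.mpr ⟨hs.isOpen_compl, hs.isOpen_compl.dense hne⟩).2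

theorem dense_compl_of_isNowhereDense {T : Type*} [TopologicalSpace T] (s : Set T)
    (hs : IsClosed s) (h : IsNowhereDense s) : Dense sᶜ :=
  (isClosed_isNowhereDense_iff_compl.mp ⟨hs, h⟩).2

theorem dense_preimage_fst_of_dense_fiber_aux (f : X ⟶ Y) (y' : Y) (D : Set X)
    (hd : Dense ((f.fiberι y') ⁻¹' D)) {Ω : Type u} [Field Ω]
    (φ : Y.residueField y' ⟶ CommRingCat.of Ω) :
    Dense ((pullback.fst f (Spec.map φ ≫ Y.fromSpecResidueField y')) ⁻¹' D) := by
  let p : pullback f (Spec.map φ ≫ Y.fromSpecResidueField y') ⟶ f.fiber y' :=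
    (pullbackLeftPullbackSndIso f (Y.fromSpecResidueField y') (Spec.map φ)).inv ≫
      pullback.fst (pullback.snd f (Y.fromSpecResidueField y')) (Spec.map φ)
  have hp : p ≫ f.fiberι y' = pullback.fst f _ := by
    simp only [p, Category.assoc]
    exact pullbackLeftPullbackSndIso_inv_fst f _ _
  have hopen : IsOpenMap p := by
    have h1 : IsOpenMap (pullbackLeftPullbackSndIso f (Y.fromSpecResidueField y')
        (Spec.map φ)).inv :=
      (pullbackLeftPullbackSndIso f (Y.fromSpecResidueField y') (Spec.map φ)).inv.homeomorph.isOpenMap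
    have h2 : IsOpenMap (pullback.fst (pullback.snd f (Y.fromSpecResidueField y'))
        (Spec.map φ)) := Scheme.Hom.isOpenMap _
    exact h2.comp h1
  have heq : (pullback.fst f (Spec.map φ ≫ Y.fromSpecResidueField y')) ⁻¹' D =
      p ⁻¹' ((f.fiberι y') ⁻¹' D) := by
    rw [← hp]
    rfl
  rw [heq]
  exact hd.preimage hopen

/-- Lemma D: density in the fibre transfers to every geometric fibre. -/
theorem dense_preimage_fst_of_dense_fiber (f : X ⟶ Y) (y : Y) (D : Set X)
    (hd : Dense ((f.fiberι y) ⁻¹' D)) {Ω : Type u} [Field Ω] (x : Spec (.of Ω) ⟶ Y)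
    (hx : y ∈ Set.range x) : Dense ((pullback.fst f x) ⁻¹' D) := by
  obtain ⟨⟨y', φ⟩, rfl⟩ := (Scheme.SpecToEquivOfField _ _).symm.surjective x
  obtain ⟨pt, hpt⟩ := hx
  have hpt' : y' = y := by
    rw [← hpt]
    simp only [Scheme.SpecToEquivOfField, Equiv.coe_fn_symm_mk]
    rw [Scheme.Hom.comp_apply, Scheme.fromSpecResidueField_apply]
  subst hpt'
  exact dense_preimage_fst_of_dense_fiber_aux f y' D hd φ

end Groth.Agent.Lib.helper11.AbsIrr
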