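import Groth.Agent.Lib.helper11.AbsIrr.SchSpec
import Groth.Agent.Lib.helper11.AbsIrr.SchDense
import Groth.Agent.Lib.helper11.AbsIrr.RingMain2
import Groth.Agent.S1298
import Groth.Agent.Lib.lead.GenFibreDim

/-!
# Geometric irreducibility near the generic fibre: affine integral base with perfect fraction field
(helper11)
-/

set_option autoImplicit false

universe u

open AlgebraicGeometry CategoryTheory Limits TensorProduct

namespace Groth.Agent.Lib.helper11.AbsIrr

variable {X : Scheme.{u}}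

/-- the image of the closed point under `Spec.map` of a ring hom to a field is the kernel -/
theorem specMap_closedPoint_asIdeal {A Ω : Type u} [CommRing A] [Field Ω] (ψ : A →+* Ω)
    (pt : ↑(Spec (CommRingCat.of Ω))) :
    ((Spec.map (CommRingCat.ofHom ψ)) pt).asIdeal = RingHom.ker ψ := by
  have h1 : pt.asIdeal = ⊥ := by
    have := pt.isPrime
    exact (Ideal.eq_bot_or_top _).resolve_right pt.isPrime.ne_top
  change Ideal.comap ψ pt.asIdeal = _
  rw [h1]
  rfl

theorem main_affine (A : Type u) [CommRing A] [IsDomain A] [PerfectField (FractionRing A)]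
    (f : X ⟶ Spec (CommRingCat.of A)) [LocallyOfFiniteType f] [QuasiCompact f]
    (h : GI f (genericPoint ↑(Spec (CommRingCat.of A)))) :
    ∃ V : (Spec (CommRingCat.of A)).Opens, (V : Set ↑(Spec (CommRingCat.of A))).Nonempty ∧
      ∀ y ∈ V, GI f y := by
  classical
  have hηbot : genericPoint ↑(Spec (CommRingCat.of A)) = (⊥ : PrimeSpectrum A) :=
    genericPoint_eq_bot_of_affine (CommRingCat.of A)
  set η := genericPoint ↑(Spec (CommRingCat.of A)) with hη
  -- (a) a point over the generic point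
  haveI h0 : IrreducibleSpace ↑(pullback f ((Spec (CommRingCat.of A)).fromSpecResidueField η)) :=
    h _ _ ⟨IsLocalRing.closedPoint _, Scheme.fromSpecResidueField_apply _ _⟩
  obtain ⟨z⟩ := h0.toNonempty
  let ξ := pullback.fst f ((Spec (CommRingCat.of A)).fromSpecResidueField η) z
  have hξ : f ξ = η := by
    have h1 : (pullback.fst f ((Spec (CommRingCat.of A)).fromSpecResidueField η) ≫ f) z =
        (pullback.snd f ((Spec (CommRingCat.of A)).fromSpecResidueField η) ≫
          (Spec (CommRingCat.of A)).fromSpecResidueField η) z := by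
      rw [pullback.condition]
    rw [Scheme.Hom.comp_apply, Scheme.Hom.comp_apply] at h1
    rw [h1]
    exact Scheme.fromSpecResidueField_apply _ _
  -- (b) an affine open neighbourhood
  obtain ⟨U, hU, hξU, -⟩ := exists_isAffineOpen_mem_and_subset (U := (⊤ : X.Opens))
    (x := ξ) (by simp)
  let B : Type u := Γ(X, U)
  let j : Spec (CommRingCat.of B) ⟶ X := hU.fromSpec
  haveI : IsOpenImmersion j := inferInstanceAs (IsOpenImmersion hU.fromSpec)
  obtain ⟨φ, hφ⟩ := Spec.map_surjective (j ≫ f)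
  algebraize [φ.hom]
  have hφ' : j ≫ f = Spec.map (CommRingCat.ofHom (algebraMap A B)) := hφ.symm
  haveI : Algebra.FiniteType A B := by
    have h1 : LocallyOfFiniteType (Spec.map φ) := by
      rw [hφ]; infer_instance
    exact (HasRingHomProperty.Spec_iff (P := @LocallyOfFiniteType)).mp h1
  obtain ⟨ξ', hξ'⟩ : ξ ∈ Set.range j := by
    rw [hU.range_fromSpec]; exact hξU
  -- (c) the geometric generic fibre of the affine piece is irreducible
  let K := FractionRing A
  let Kb := AlgebraicClosure K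
  have hKbinj : Function.Injective (algebraMap A Kb) := by
    rw [IsScalarTower.algebraMap_eq A K Kb]
    exact (algebraMap K Kb).injective.comp (IsFractionRing.injective A K)
  let x₀ : Spec (CommRingCat.of Kb) ⟶ Spec (CommRingCat.of A) :=
    Spec.map (CommRingCat.ofHom (algebraMap A Kb))
  have hx₀ : ∀ pt, x₀ pt = η := by
    intro pt
    rw [hηbot]
    apply PrimeSpectrum.ext
    rw [specMap_closedPoint_asIdeal]
    exact (RingHom.injective_iff_ker_eq_bot _).mp hKbinj
  haveI hirr0 : IrreducibleSpace ↑(pullback f x₀) :=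
    h Kb x₀ ⟨IsLocalRing.closedPoint Kb, hx₀ _⟩
  haveI : Nonempty ↑(pullback (j ≫ f) x₀) := by
    obtain ⟨t, -, -⟩ := Scheme.Pullback.exists_preimage_pullback (f := j ≫ f) (g := x₀) ξ'
      (IsLocalRing.closedPoint Kb) (by rw [Scheme.Hom.comp_apply, hξ', hξ, hx₀])
    exact ⟨t⟩
  haveI hirr1 : IrreducibleSpace ↑(pullback (j ≫ f) x₀) :=
    irreducibleSpace_pullback_of_isOpenImmersion f j x₀
  haveI hirr2 : IrreducibleSpace (PrimeSpectrum (Kb ⊗[A] B)) := by
    rw [← irreducibleSpace_pullback_Spec_iff, ← hφ']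
    exact hirr1
  -- (d) the ring-level theorem
  obtain ⟨a, g, q, ha, hq, hgq, hqA, H⟩ := exists_irreducibleSpace_fibres A B K Kb
  let Bg := Localization.Away g
  let jW : Spec (CommRingCat.of Bg) ⟶ X := Spec.map (CommRingCat.ofHom (algebraMap B Bg)) ≫ j
  haveI : IsOpenImmersion (Spec.map (CommRingCat.ofHom (algebraMap B Bg))) :=
    IsOpenImmersion.of_isLocalization g
  haveI : IsOpenImmersion jW := by
    dsimp only [jW]; infer_instance
  have hjW : jW ≫ f = Spec.map (CommRingCat.ofHom (algebraMap A Bg)) := by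
    dsimp only [jW]
    rw [Category.assoc, hφ', ← Spec.map_comp, ← CommRingCat.ofHom_comp,
      ← IsScalarTower.algebraMap_eq]
  -- the point of `W` over the generic point
  obtain ⟨ζ', hζ'⟩ : (⟨q, hq⟩ : PrimeSpectrum B) ∈
      Set.range (PrimeSpectrum.comap (algebraMap B Bg)) := by
    rw [PrimeSpectrum.localization_away_comap_range Bg g]
    exact hgq
  have hζη : (jW ≫ f) ζ' = η := by
    rw [hjW, hηbot]
    apply PrimeSpectrum.ext
    change Ideal.comap (algebraMap A Bg) ζ'.asIdeal = ⊥
    rw [IsScalarTower.algebraMap_eq A B Bg, ← Ideal.comap_comap, ← hqA]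
    congr 1
    exact congrArg PrimeSpectrum.asIdeal hζ'
  -- (e) the complement of `W` is nowhere dense in the generic fibre, hence in nearby fibres
  let Z : Set X := (Set.range jW)ᶜ
  have hZ : IsClosed Z := (jW.isOpenEmbedding.isOpen_range).isClosed_compl
  haveI h0' : IrreducibleSpace ↑(f.fiber η) := h0
  have hZη : IsNowhereDense ((f.fiberι η) ⁻¹' Z) := by
    apply isNowhereDense_of_isClosed_of_compl_nonempty _ (hZ.preimage (f.fiberι η).continuous)
    have h1 : jW ζ' ∈ Set.range (f.fiberι η) := by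
      rw [f.range_fiberι η]
      rw [Scheme.Hom.comp_apply] at hζη
      exact hζη
    obtain ⟨t, ht⟩ := h1
    refine ⟨t, ?_⟩
    simp only [Set.mem_compl_iff, Set.mem_preimage, Z, not_not]
    exact ⟨ζ', ht.symm⟩
  obtain ⟨V₁, hV₁, HV₁⟩ := Groth.Agent.S1298.result f Z hZ hZη
  -- (f) the image of `W` contains a neighbourhood of the generic point
  haveI : LocallyOfFiniteType (jW ≫ f) := inferInstance
  obtain ⟨V₂, hV₂, HV₂⟩ := Groth.Agent.Lib.lead.GenFibreDim.exists_open_subset_image (jW ≫ f)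
    Set.univ isClosed_univ ζ' trivial hζη
  -- (g) the open set
  have hV₁η : η ∈ V₁ := by
    obtain ⟨v, hv⟩ := hV₁
    exact ((genericPoint_spec _).mem_open_set_iff V₁.isOpen).mpr ⟨v, trivial, hv⟩
  have haη : η ∈ PrimeSpectrum.basicOpen a := by
    have h1 : a ∉ (⊥ : PrimeSpectrum A).asIdeal := fun hm => ha (by simpa using hm)
    rw [hηbot]
    exact h1
  refine ⟨V₁ ⊓ V₂ ⊓ PrimeSpectrum.basicOpen a, ⟨η, ⟨hV₁η, hV₂⟩, haη⟩, ?_⟩
  rintro y ⟨⟨hy₁, hy₂⟩, hya⟩
  intro Ω _ x hx
  obtain ⟨ψ, rfl⟩ := Spec.map_surjective x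
  algebraize [ψ.hom]
  obtain ⟨pt, hpt⟩ := hx
  have hΩa : algebraMap A Ω a ≠ 0 := by
    intro h0
    apply hya
    rw [← hpt]
    change a ∈ ((Spec.map (CommRingCat.ofHom (algebraMap A Ω))) pt).asIdeal
    rw [specMap_closedPoint_asIdeal, RingHom.mem_ker]
    exact h0
  haveI hne : Nonempty ↑(pullback (jW ≫ f) (Spec.map ψ)) := by
    obtain ⟨w, -, hw⟩ := HV₂ hy₂
    obtain ⟨t, -, -⟩ := Scheme.Pullback.exists_preimage_pullback (f := jW ≫ f)
      (g := Spec.map ψ) w pt (hw.trans hpt.symm)
    exact ⟨t⟩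
  have hnt : Nontrivial (Ω ⊗[A] Bg) := by
    rw [← nonempty_pullback_Spec_iff, ← hjW]
    exact hne
  haveI := H Ω hΩa hnt
  haveI : IrreducibleSpace ↑(pullback (jW ≫ f) (Spec.map ψ)) := by
    rw [hjW]
    exact (irreducibleSpace_pullback_Spec_iff A Bg Ω).mpr inferInstance
  apply irreducibleSpace_pullback_of_dense f jW (Spec.map ψ)
  apply dense_preimage_fst_of_dense_fiber f y _ _ (Spec.map ψ) ⟨pt, hpt⟩
  have h1 := dense_compl_of_isNowhereDense _ (hZ.preimage (f.fiberι y).continuous) (HV₁ y hy₁)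
  rw [← Set.preimage_compl, compl_compl] at h1
  exact h1

end Groth.Agent.Lib.helper11.AbsIrr
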