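import Groth.Agent.Lib.helper11.AbsIrr.SchMain
import Groth.Agent.Lib.helper11.AbsIrr.PerfBase

/-!
# Geometric irreducibility near the generic fibre: reductions and the general statement (helper11)
-/

set_option autoImplicit false

universe u

open AlgebraicGeometry CategoryTheory Limits TensorProduct

namespace Groth.Agent.Lib.helper11.AbsIrr

variable {X Y : Scheme.{u}}

/-- integral affine base, any characteristic -/
theorem main_affine_domain (A : Type u) [CommRing A] [IsDomain A]
    (f : X ⟶ Spec (CommRingCat.of A)) [LocallyOfFiniteType f] [QuasiCompact f]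
    (h : GI f (genericPoint ↑(Spec (CommRingCat.of A)))) :
    ∃ V : (Spec (CommRingCat.of A)).Opens, (V : Set ↑(Spec (CommRingCat.of A))).Nonempty ∧
      ∀ y ∈ V, GI f y := by
  obtain ⟨p, hp⟩ := ExpChar.exists A
  rcases hp with _ | hprime
  · haveI : CharZero (FractionRing A) :=
      charZero_of_injective_algebraMap (IsFractionRing.injective A (FractionRing A))
    exact main_affine A f h
  · haveI : Fact p.Prime := ⟨hprime⟩
    haveI : PerfectField (FractionRing (PerfectClosure A p)) :=
      perfectField_fractionRing (PerfectClosure A p) p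
    let g : Spec (CommRingCat.of (PerfectClosure A p)) ⟶ Spec (CommRingCat.of A) :=
      Spec.map (CommRingCat.ofHom (PerfectClosure.of A p))
    have hg : IsOpenMap g := (isHomeomorph_comap_perfectClosure_of A p).isOpenMap
    exact reduction f g hg (main_affine (PerfectClosure A p) (pullback.snd f g)) h

/-- irreducible affine base -/
theorem main_affine_irreducible (R : Type u) [CommRing R] [IrreducibleSpace (PrimeSpectrum R)]
    [IrreducibleSpace ↑(Spec (CommRingCat.of R))]
    (f : X ⟶ Spec (CommRingCat.of R)) [LocallyOfFiniteType f] [QuasiCompact f]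
    (h : GI f (genericPoint ↑(Spec (CommRingCat.of R)))) :
    ∃ V : (Spec (CommRingCat.of R)).Opens, (V : Set ↑(Spec (CommRingCat.of R))).Nonempty ∧
      ∀ y ∈ V, GI f y := by
  haveI hprime : (nilradical R).IsPrime :=
    (PrimeSpectrum.irreducibleSpace_iff_isPrime_nilradical).mp inferInstance
  let A := R ⧸ nilradical R
  haveI : IsDomain A := Ideal.Quotient.isDomain _
  let g : Spec (CommRingCat.of A) ⟶ Spec (CommRingCat.of R) :=
    Spec.map (CommRingCat.ofHom (Ideal.Quotient.mk (nilradical R)))
  have hg : IsOpenMap g := by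
    have hh : IsHomeomorph (PrimeSpectrum.comap (Ideal.Quotient.mk (nilradical R))) :=
      PrimeSpectrum.isHomeomorph_comap _
        (fun x => ⟨1, Nat.one_pos, by rw [pow_one]; exact Ideal.Quotient.mk_surjective x⟩)
        (by rw [Ideal.mk_ker])
    exact hh.isOpenMap
  exact reduction f g hg (main_affine_domain A (pullback.snd f g)) h

/-- the general statement in terms of `GI` -/
theorem main_gi (f : X ⟶ Y) [IrreducibleSpace Y] [LocallyOfFiniteType f] [QuasiCompact f]
    (h : GI f (genericPoint Y)) :
    ∃ V : Y.Opens, (V : Set Y).Nonempty ∧ ∀ y ∈ V, GI f y := by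
  obtain ⟨U, hU, hηU, -⟩ := exists_isAffineOpen_mem_and_subset (U := (⊤ : Y.Opens))
    (x := genericPoint Y) (by simp)
  let R : Type u := Γ(Y, U)
  let g : Spec (CommRingCat.of R) ⟶ Y := hU.fromSpec
  haveI : IsOpenImmersion g := inferInstanceAs (IsOpenImmersion hU.fromSpec)
  have hg : IsOpenMap g := g.isOpenEmbedding.isOpenMap
  haveI : Nonempty ↑(Spec (CommRingCat.of R)) := by
    have h1 : genericPoint Y ∈ Set.range g := by
      rw [hU.range_fromSpec]; exact hηU
    obtain ⟨t, -⟩ := h1
    exact ⟨t⟩
  haveI hirr : IrreducibleSpace ↑(Spec (CommRingCat.of R)) :=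
    irreducibleSpace_of_isOpenEmbedding g g.isOpenEmbedding
  haveI : IrreducibleSpace (PrimeSpectrum R) := hirr
  exact reduction f g hg (main_affine_irreducible R (pullback.snd f g)) h

/-- EGA IV 9.7.7 (i), irreducible case: spreading out geometric irreducibility of the generic
fibre. -/
theorem exists_open_geometricallyIrreducible (f : X ⟶ Y) [IrreducibleSpace Y]
    [LocallyOfFiniteType f] [QuasiCompact f]
    (h : GeometricallyIrreducible (f.fiberToSpecResidueField (genericPoint Y))) :
    ∃ V : Y.Opens, (V : Set Y).Nonempty ∧ GeometricallyIrreducible (f ∣_ V) := by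
  obtain ⟨V, hV, HV⟩ := main_gi f (gi_of_geometricallyIrreducible f _ h)
  refine ⟨V, hV, ⟨geometrically_iff_of_isClosedUnderIsomorphisms.mpr fun K _ x => ?_⟩⟩
  have h1 : IsPullback (pullback.fst (f ∣_ V) x) (pullback.snd (f ∣_ V) x) (f ∣_ V) x :=
    IsPullback.of_hasPullback _ _
  have h2 : IsPullback (f ⁻¹ᵁ V).ι (f ∣_ V) f V.ι := (isPullback_morphismRestrict f V).flip
  have h3 := h1.paste_horiz h2
  haveI : IrreducibleSpace ↑(pullback f (x ≫ V.ι)) := by
    apply HV ((x ≫ V.ι) (IsLocalRing.closedPoint K)) _ K (x ≫ V.ι) ⟨_, rfl⟩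
    rw [Scheme.Hom.comp_apply]
    exact (x (IsLocalRing.closedPoint K)).2
  exact irreducibleSpace_of_iso h3.isoPullback.symm

end Groth.Agent.Lib.helper11.AbsIrr
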