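import Groth.Agent.Lib.helper11.AbsIrr.SchBasic
import Groth.Agent.Lib.helper11.AbsIrr.RingRed

/-!
# Pullbacks of spectra and tensor products (helper11)
-/

set_option autoImplicit false

universe u

open AlgebraicGeometry CategoryTheory Limits TensorProduct

namespace Groth.Agent.Lib.helper11.AbsIrr

theorem irreducibleSpace_primeSpectrum_of_ringEquiv {R S : Type*} [CommRing R] [CommRing S]
    (e : R ≃+* S) [IrreducibleSpace (PrimeSpectrum R)] : IrreducibleSpace (PrimeSpectrum S) :=
  (PrimeSpectrum.homeomorphOfRingEquiv e).irreducibleSpace_iff.mp inferInstance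

variable (A B C : Type u) [CommRing A] [CommRing B] [CommRing C] [Algebra A B] [Algebra A C]

theorem irreducibleSpace_pullback_Spec_iff :
    IrreducibleSpace ↑(pullback (Spec.map (CommRingCat.ofHom (algebraMap A B)))
      (Spec.map (CommRingCat.ofHom (algebraMap A C)))) ↔
    IrreducibleSpace (PrimeSpectrum (C ⊗[A] B)) := by
  have h1 := (pullbackSpecIso A B C).hom.homeomorph.irreducibleSpace_iff
  have h2 : IrreducibleSpace (PrimeSpectrum (B ⊗[A] C)) ↔
      IrreducibleSpace (PrimeSpectrum (C ⊗[A] B)) :=
    (PrimeSpectrum.homeomorphOfRingEquiv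
      (Algebra.TensorProduct.comm A B C).toRingEquiv).irreducibleSpace_iff
  exact h1.trans h2

theorem nonempty_pullback_Spec_iff :
    Nonempty ↑(pullback (Spec.map (CommRingCat.ofHom (algebraMap A B)))
      (Spec.map (CommRingCat.ofHom (algebraMap A C)))) ↔
    Nontrivial (C ⊗[A] B) := by
  have h1 : Nonempty ↑(pullback (Spec.map (CommRingCat.ofHom (algebraMap A B)))
      (Spec.map (CommRingCat.ofHom (algebraMap A C)))) ↔ Nonempty (PrimeSpectrum (B ⊗[A] C)) :=
    (pullbackSpecIso A B C).hom.homeomorph.nonempty_congr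
  rw [h1, PrimeSpectrum.nonempty_iff_nontrivial]
  exact ⟨fun h => (Algebra.TensorProduct.comm A B C).injective.nontrivial,
    fun h => (Algebra.TensorProduct.comm A B C).symm.injective.nontrivial⟩

end Groth.Agent.Lib.helper11.AbsIrr
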